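import Cfsg.Agent.Lib.BrauerTuan.Counting
import Cfsg.Agent.Lib.DegreePSubTwo.Main

/-!
# The exceptional degree `p - e`
-/

set_option autoImplicit false
set_option linter.unusedSectionVars false
set_option linter.style.haveILetI false
set_option maxHeartbeats 1000000

namespace Cfsg.Agent.Lib.BrauerTuan

open Cfsg Cfsg.Agent.Lib.Characters Cfsg.Agent.Lib.Blocks
open scoped ComplexConjugate

universe u

variable {G : Type u} [Group G] [Fintype G] {p : ℕ} [hp : Fact p.Prime]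

/-- The two outcomes. -/
def Outcome (p : ℕ) (G : Type u) [Group G] : Prop :=
  (∃ m : ℕ, (p = 2 ^ m + 1 ∨ p = 2 ^ m - 1) ∧ BrauerPrime.IsBrauerGroup p G) ∨
  (∃ (m : ℕ) (F : Type) (_ : Field F) (_ : Fintype F), Fintype.card F = 2 ^ m ∧ p = 2 ^ m + 1 ∧ 3 < p ∧
    Nonempty (G ≃* Matrix.ProjectiveSpecialLinearGroup (Fin 2) F))

/-- Powers of two congruent to `-1` modulo a Fermat prime. -/
theorem eq_of_two_pow_modEq {s b D : ℕ} (hD : D = 2 ^ s + 1) (hp : p = 2 ^ (s + 1) + 1)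
    (hmod : (2 : ZMod p) ^ b = -1) (hle : 2 ^ b ≤ D * D * D) (hs : 1 ≤ s) : b = s + 1 := by
  have hpow : (2 : ZMod p) ^ (s + 1) = -1 := by
    rw [eq_neg_iff_add_eq_zero]
    have h : ((2 ^ (s + 1) + 1 : ℕ) : ZMod p) = 0 := by rw [← hp, ZMod.natCast_self]
    push_cast at h
    exact h
  have hlt : b < 3 * (s + 1) := by
    by_contra h
    push Not at h
    have h1 : 2 ^ (3 * (s + 1)) ≤ D * D * D := (Nat.pow_le_pow_right (by norm_num) h).trans hle
    have h2 : 2 ≤ 2 ^ s := le_trans (by norm_num) (Nat.pow_le_pow_right (by norm_num : 0 < 2) hs)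
    rw [hD, mul_comm 3 (s + 1), pow_mul] at h1
    have h3 : 2 ^ s + 1 < 2 ^ (s + 1) := by rw [pow_succ]; omega
    have h4 := Nat.mul_lt_mul'' (Nat.mul_lt_mul'' h3 h3) h3
    rw [pow_three, ← mul_assoc] at h1
    omega
  obtain ⟨k, r, rfl, hr⟩ : ∃ k r, b = (s + 1) * k + r ∧ r < s + 1 :=
    ⟨b / (s + 1), b % (s + 1), (Nat.div_add_mod b (s + 1)).symm, Nat.mod_lt _ (by omega)⟩
  rw [pow_add, pow_mul, hpow] at hmod
  have hr2 : 2 ^ r + 1 < p := by
    rw [hp]; exact Nat.add_lt_add_right (Nat.pow_lt_pow_right (by norm_num) hr) 1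
  have h2r : ((2 ^ r : ℕ) : ZMod p) = 1 ∨ ((2 ^ r : ℕ) : ZMod p) = ((p - 1 : ℕ) : ZMod p) := by
    have hpm : ((p - 1 : ℕ) : ZMod p) = -1 := by
      rw [Nat.cast_sub (by omega : 1 ≤ p), ZMod.natCast_self]; simp
    rcases Nat.even_or_odd k with h | h
    · right
      rw [h.neg_one_pow, one_mul] at hmod
      rw [hpm]; push_cast; exact hmod
    · left
      rw [h.neg_one_pow, neg_one_mul, neg_inj] at hmod
      push_cast; exact hmod
  rcases h2r with h | h
  · have h' : 2 ^ r % p = 1 % p := (ZMod.natCast_eq_natCast_iff' _ _ _).1 (by rw [h, Nat.cast_one])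
    rw [Nat.mod_eq_of_lt (by omega), Nat.mod_eq_of_lt (by omega), Nat.pow_eq_one] at h'
    have hr0 : r = 0 := h'.resolve_left (by norm_num)
    subst hr0
    have hk : k < 3 := by
      by_contra hk
      have : (s + 1) * 3 ≤ (s + 1) * k := Nat.mul_le_mul_left _ (by omega)
      omega
    rw [pow_zero, mul_one] at hmod
    interval_cases k
    · exfalso
      rw [pow_zero] at hmod
      have h' : ((2 : ℕ) : ZMod p) = 0 := by push_cast; linear_combination hmod
      rw [ZMod.natCast_eq_zero_iff] at h'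
      have := Nat.le_of_dvd (by norm_num) h'
      omega
    · omega
    · exfalso
      rw [neg_one_sq] at hmod
      have h' : ((2 : ℕ) : ZMod p) = 0 := by push_cast; linear_combination hmod
      rw [ZMod.natCast_eq_zero_iff] at h'
      have := Nat.le_of_dvd (by norm_num) h'
      omega
  · have h' := (ZMod.natCast_eq_natCast_iff' _ _ _).1 h
    rw [Nat.mod_eq_of_lt (by omega), Nat.mod_eq_of_lt (by omega)] at h'
    omega

namespace Ctx

variable {q b g : ℕ} {P : Sylow p G} {u t : G} {r e : ℕ} {X Y : Finset (IrrCharacter G)}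
  {εX : IrrCharacter G → ℤ} {ε : ℤ} {D : ℕ}

theorem case_minus (C : Ctx p q b g P u t r e X Y εX ε D) (hε : ε = -1) (hDe : D + e = p) :
    Outcome p G := by
  classical
  haveI := C.simple
  haveI := Fintype.ofFinite (IrrCharacter G)
  have h5 := C.five
  have he2 := C.frame.two_le
  have hed := C.frame.dvd
  have h2e : 2 * e ≤ p - 1 := by
    obtain ⟨w, hw⟩ := hed
    have hlt := C.e_lt
    rcases w with _ | _ | w
    · omega
    · omega
    · rw [hw]; calc 2 * e = e * 2 := mul_comm _ _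
        _ ≤ e * (w + 1 + 1) := Nat.mul_le_mul_left e (by omega)
  have hgD : g = D := by
    obtain ⟨k, hk⟩ := C.D_dvd
    have hlt := C.g_lt
    have hg0 : g ≠ 0 := fun h => Nat.card_pos.ne' (C.card_G.trans (by rw [h, mul_zero]))
    rcases k with _ | _ | k
    · omega
    · omega
    · exfalso
      have : D * 2 ≤ g := hk ▸ Nat.mul_le_mul_left D (by omega)
      omega
  have hcardeq := C.card_eq'
  rw [hgD] at hcardeq
  have hcop : Nat.Coprime e D := by
    have hpe : Nat.Coprime e p := (hp.out.coprime_iff_not_dvd.2 fun h => by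
      have := Nat.le_of_dvd (by omega) h; omega).symm
    rw [← hDe, Nat.coprime_add_self_right] at hpe
    exact hpe
  have heq : e ∣ q ^ b := hcop.dvd_of_dvd_mul_right ⟨_, hcardeq.symm⟩
  obtain ⟨s₀, -, hes⟩ := (Nat.dvd_prime_pow C.prime_q).1 heq
  have hqe : q ∣ e := hes ▸ dvd_pow_self q (fun h => by rw [h, pow_zero] at hes; omega)
  -- `q = 2`
  obtain ⟨θ, hθ, θ', hθ', hne⟩ : ∃ a ∈ Y, ∃ a' ∈ Y, a ≠ a' := by
    refine Finset.one_lt_card.1 ?_
    by_contra h
    have h1 : Y.card * e ≤ 1 * e := Nat.mul_le_mul_right e (by omega)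
    rw [C.card_Y] at h1
    omega
  obtain ⟨hSA, hSB, -⟩ := C.split hθ hθ' hne
  have hrel := C.relation_one
  rw [hε] at hrel
  set A := X.filter fun χ => εX χ = 1 with hAdef
  set B := X.filter fun χ => ¬ εX χ = 1 with hBdef
  set SA := ∑ χ ∈ A, charDegree (χ : G → ℂ) with hSAdef
  set SB := ∑ χ ∈ B, charDegree (χ : G → ℂ) with hSBdef
  have htA : trivIrr G ∈ A := Finset.mem_filter.2 ⟨C.triv_mem, C.eX_triv⟩
  have htdeg : charDegree ((trivIrr G : IrrCharacter G) : G → ℂ) = 1 := BrauerPrime.charDegree_triv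
  have hq2 : q = 2 := by
    have hA1 : (q : ℤ) ∣ (SA : ℤ) - 1 := by
      rw [hSAdef, ← Finset.add_sum_erase _ _ htA, htdeg, Nat.cast_add, Nat.cast_one,
        add_sub_cancel_left, Nat.cast_sum]
      exact Finset.dvd_sum fun χ hχ => Int.natCast_dvd_natCast.2 (C.X_dvd χ
        (Finset.mem_filter.1 (Finset.mem_erase.1 hχ).2).1 (Finset.mem_erase.1 hχ).1)
    have hB1 : (q : ℤ) ∣ (SB : ℤ) := by
      rw [hSBdef, Nat.cast_sum]
      exact Finset.dvd_sum fun χ hχ => Int.natCast_dvd_natCast.2 (C.X_dvd χ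
        (Finset.mem_filter.1 hχ).1 (fun h => (Finset.mem_filter.1 hχ).2 (h ▸ C.eX_triv)))
    have h1 : (q : ℤ) ∣ (D : ℤ) + 1 := by
      have := dvd_sub hB1 hA1
      rwa [show (SB : ℤ) - ((SA : ℤ) - 1) = (D : ℤ) + 1 by linarith] at this
    have h2 : (q : ℤ) ∣ ((p - 1 : ℕ) : ℤ) := Int.natCast_dvd_natCast.2 (hqe.trans hed)
    have h3 : (q : ℤ) ∣ 2 := by
      have := dvd_sub (dvd_add h1 (Int.natCast_dvd_natCast.2 hqe)) h2
      rwa [show (D : ℤ) + 1 + (e : ℤ) - ((p - 1 : ℕ) : ℤ) = 2 by omega] at this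
    exact (Nat.prime_dvd_prime_iff_eq C.prime_q Nat.prime_two).1 (by exact_mod_cast h3)
  subst hq2
  have hDodd : ¬ 2 ∣ D := C.q_D
  by_cases hexc : e = 2 ∧ 5 < p
  · -- the degree `p - 2`
    right
    obtain ⟨rfl, h5'⟩ := hexc
    have hθne : θ ≠ trivIrr G := fun h => Finset.disjoint_left.1 C.disj C.triv_mem (h ▸ hθ)
    have hPc : ¬ (P : Subgroup G) ≤ Subgroup.center G := fun h => by
      have := h C.frame.mem
      rw [C.center_eq_bot, Subgroup.mem_bot] at this
      exact C.frame.ne_one this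
    obtain ⟨-, a, F, i1, i2, hpa, hF, ⟨φ⟩⟩ := DegreePSubTwo.iso_sl C.perfect
      (⟨h5', by rw [C.Y_deg θ hθ]; exact hDe, fun x hx => BrauerPrime.faithful θ hθne x hx,
        C.frame.card_P, BrauerPrime.sq_not_dvd P C.frame.card_P, hPc⟩ :
        DegreePSubTwo.Setting p θ (P : Subgroup G))
    letI := i1
    letI := i2
    haveI : CharP F 2 := by
      obtain ⟨c, hc⟩ := CharP.exists F
      haveI := hc
      obtain ⟨m, hcp, hm⟩ := FiniteField.card F c
      rw [hF] at hm
      have h2 : c ∣ 2 ^ a := hm ▸ dvd_pow_self c m.2.ne'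
      rw [(Nat.prime_dvd_prime_iff_eq hcp Nat.prime_two).1 (hcp.dvd_of_dvd_pow h2)] at hc
      exact hc
    obtain ⟨σ⟩ := BrauerPrime.nonempty_sl_equiv_psl F
    exact ⟨a, F, i1, i2, hF, hpa, by omega, ⟨φ.trans σ.symm⟩⟩
  have hG2 : 2 ∣ Nat.card G := by
    rw [C.card_G]
    refine dvd_mul_of_dvd_left (dvd_mul_of_dvd_right (dvd_pow_self 2 fun hb => ?_) _) _
    rw [hb, pow_zero] at heq
    have := Nat.eq_one_of_dvd_one heq
    omega
  obtain ⟨z, hz, hzodd⟩ := exists_involution_odd_index hG2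
  set I := (Subgroup.centralizer ({z} : Set G)).index with hIdef
  have hzz : z * z = 1 := by rw [← pow_two, ← hz]; exact pow_orderOf_eq_one z
  have hzreg : ¬ p ∣ orderOf z := by
    rw [hz]; exact fun h => absurd (Nat.le_of_dvd (by norm_num) h) (by omega)
  choose v hv hv4 using fun χ : IrrCharacter G => involution_value_mod_four C.perfect χ hzz
  have hodd_dvd : ∀ χ ∈ X, ∀ k h : ℕ, charDegree (χ : G → ℂ) = k * h → ¬ 2 ∣ h →
      ¬ p ∣ h → h ∣ D := by
    intro χ _ k h hkh h2h hph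
    have h1 : h ∣ p * 2 ^ b * D := hgD ▸ C.card_G ▸ (Dvd.intro_left k hkh.symm).trans (charDegree_dvd_card χ)
    refine ((Nat.prime_two.coprime_iff_not_dvd.2 h2h).symm.pow_right b).dvd_of_dvd_mul_left
      (((hp.out.coprime_iff_not_dvd.2 hph).symm).dvd_of_dvd_mul_left ?_)
    rwa [← mul_assoc]
  -- the degree is `(p + 1) / 2`
  have hDhalf : 2 * D = p + 1 := by
    by_cases he : e = 2
    · omega
    have h4e : 4 ∣ e := by
      rw [hes]
      rcases s₀ with _ | _ | s
      · rw [pow_zero] at hes; omega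
      · rw [pow_one] at hes; omega
      · exact ⟨2 ^ s, by ring⟩
    have h4p : 4 ∣ p - 1 := h4e.trans hed
    obtain ⟨χ, hχ, hne1, hχ4⟩ : ∃ χ ∈ X, χ ≠ trivIrr G ∧ ¬ 4 ∣ charDegree (χ : G → ℂ) := by
      by_contra hcon
      push Not at hcon
      have h := C.relation θ hθ z hzreg
      rw [hε, hv θ, Finset.sum_congr rfl fun χ _ => by rw [hv χ]] at h
      have h' : -v θ = ∑ χ ∈ X, εX χ * v χ := by
        have h'' : ((-1 : ℤ) : ℂ) * (v θ : ℂ) = ∑ χ ∈ X, (εX χ : ℂ) * (v χ : ℂ) := h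
        have h3 : (((-1 : ℤ) * v θ : ℤ) : ℂ) = ((∑ χ ∈ X, εX χ * v χ : ℤ) : ℂ) := by
          push_cast; push_cast at h''; exact h''
        rw [← neg_one_mul]
        exact Int.cast_injective h3
      have hvt : v (trivIrr G) = 1 := by
        have := hv (trivIrr G)
        rw [trivIrr_apply] at this
        exact_mod_cast this.symm
      rw [← Finset.add_sum_erase _ _ C.triv_mem, C.eX_triv, hvt, one_mul] at h'
      have h4 : (4 : ℤ) ∣ ∑ χ ∈ X.erase (trivIrr G), εX χ * v χ := by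
        refine Finset.dvd_sum fun χ hχ => dvd_mul_of_dvd_right ?_ _
        have h1 := hcon χ (Finset.mem_erase.1 hχ).2 (Finset.mem_erase.1 hχ).1
        have h2 := hv4 χ
        have h3 : (4 : ℤ) ∣ (charDegree (χ : G → ℂ) : ℤ) := by exact_mod_cast h1
        have := dvd_sub h3 h2
        simpa using this
      have h5 := hv4 θ
      rw [C.Y_deg θ hθ] at h5
      omega
    have heven := C.X_dvd χ hχ hne1
    obtain ⟨h, hh⟩ := heven
    have h2h : ¬ 2 ∣ h := fun h2 => hχ4 (by obtain ⟨w, rfl⟩ := h2; exact ⟨w, by omega⟩)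
    have hxp : ¬ p ∣ h := by
      intro hph
      have h1 := Int.modEq_iff_dvd.1 (C.X_mod χ hχ)
      have h2 : (p : ℤ) ∣ εX χ := by
        have h3 : (p : ℤ) ∣ (charDegree (χ : G → ℂ) : ℤ) := by
          rw [hh]; exact Int.natCast_dvd_natCast.2 (dvd_mul_of_dvd_right hph _)
        have := dvd_add h1 h3
        simpa using this
      rcases C.eX χ hχ with h4 | h4 <;> rw [h4] at h2
      · exact hp.out.ne_one (Nat.dvd_one.1 (by exact_mod_cast h2))
      · exact hp.out.ne_one (Nat.dvd_one.1 (by exact_mod_cast dvd_neg.1 h2))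
    have hhD := hodd_dvd χ hχ 2 h hh h2h hxp
    obtain ⟨w, hw⟩ := hhD
    have hhle : h ≤ D := Nat.le_of_dvd (by omega) ⟨w, hw⟩
    obtain ⟨k, hk⟩ := Int.modEq_iff_dvd.1 (C.X_mod χ hχ)
    have hh0 : 0 < h := Nat.pos_of_ne_zero fun h0 => h2h (h0 ▸ dvd_zero 2)
    rw [hh] at hk
    have hkk : k = -1 := by
      rcases lt_trichotomy k (-1) with hk0 | hk0 | hk0
      · exfalso
        have : (p : ℤ) * k ≤ -(2 * (p : ℤ)) := by nlinarith
        rcases C.eX χ hχ with h4 | h4 <;> omega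
      · exact hk0
      · exfalso
        have : 0 ≤ (p : ℤ) * k := by nlinarith
        rcases C.eX χ hχ with h4 | h4 <;> omega
    subst hkk
    rcases C.eX χ hχ with h4 | h4
    · rcases w with _ | _ | w
      · omega
      · omega
      · exfalso
        have : h * 2 ≤ D := hw ▸ Nat.mul_le_mul_left h (by omega)
        omega
    · exfalso; omega
  -- powers of two
  obtain ⟨s, hs1, hs⟩ : ∃ s, 1 ≤ s ∧ e = 2 ^ s := by
    refine ⟨s₀, Nat.pos_of_ne_zero fun h => ?_, hes⟩
    rw [h, pow_zero] at hes; omega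
  have hps : p = 2 ^ (s + 1) + 1 := by rw [pow_succ]; omega
  have hDs : D = 2 ^ s + 1 := by omega
  have hcardAB : A.card + B.card + 1 = D := by
    rw [hAdef, hBdef, Finset.card_filter_add_card_filter_not, C.card_X]; omega
  have hAge : ∀ χ ∈ A, χ ≠ trivIrr G → p + 1 ≤ charDegree (χ : G → ℂ) := by
    intro χ hχ hne1
    obtain ⟨h1, h2⟩ := Finset.mem_filter.1 hχ
    have h3 := C.X_mod χ h1
    rw [h2] at h3
    obtain ⟨k, hk⟩ := Int.modEq_iff_dvd.1 h3
    have h4 := charDegree_pos χ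
    have h5' : charDegree (χ : G → ℂ) ≠ 1 := fun h =>
      hne1 (BrauerPrime.eq_trivIrr_of_degree_one C.perfect χ h)
    have hk0 : k < 0 := by
      by_contra hk0
      have : 0 ≤ (p : ℤ) * k := mul_nonneg (by positivity) (by omega)
      omega
    have : (p : ℤ) * k ≤ -(p : ℤ) := by nlinarith
    omega
  have hBge : ∀ χ ∈ B, ∃ k : ℕ, 1 ≤ k ∧ charDegree (χ : G → ℂ) + 1 = k * p := by
    intro χ hχ
    obtain ⟨h1, h2⟩ := Finset.mem_filter.1 hχ
    have h3 := C.X_mod χ h1
    rw [(C.eX χ h1).resolve_left h2] at h3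
    obtain ⟨k, hk⟩ := Int.modEq_iff_dvd.1 h3
    have h4 := charDegree_pos χ
    have hk0 : k < 0 := by
      by_contra hk0
      have : 0 ≤ (p : ℤ) * k := mul_nonneg (by positivity) (by omega)
      omega
    refine ⟨(-k).toNat, by omega, ?_⟩
    have h6 : ((((-k).toNat * p : ℕ)) : ℤ) = -k * p := by push_cast [Int.toNat_of_nonneg (by omega : 0 ≤ -k)]; ring
    have h7 : -k * (p : ℤ) = -((p : ℤ) * k) := by ring
    omega
  have hBdeg : ∀ χ ∈ B, charDegree (χ : G → ℂ) = 2 ^ (s + 1) := by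
    intro χ hχ
    obtain ⟨k, hk1, hk⟩ := hBge χ hχ
    have heven := C.X_dvd χ (Finset.mem_filter.1 hχ).1 (fun h => (Finset.mem_filter.1 hχ).2 (h ▸ C.eX_triv))
    rcases Nat.lt_or_ge k 5 with hk5 | hk5
    · interval_cases k
      · omega
      · omega
      · exfalso
        have hh : charDegree (χ : G → ℂ) = 2 * (3 * 2 ^ s + 1) := by
          rw [hps, pow_succ] at hk; omega
        have h2s : 2 ∣ 2 ^ s := dvd_pow_self 2 (by omega)
        have hnp : ¬ p ∣ 3 * 2 ^ s + 1 := by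
          intro hd
          have hd' : p ∣ charDegree (χ : G → ℂ) := hh ▸ dvd_mul_of_dvd_right hd 2
          obtain ⟨c, hc⟩ := hd'
          rw [hc] at hk
          have hc3 : c < 3 := by
            by_contra hc3
            have : p * 3 ≤ p * c := Nat.mul_le_mul_left p (by omega)
            omega
          interval_cases c <;> omega
        have := Nat.le_of_dvd (by omega) (hodd_dvd χ (Finset.mem_filter.1 hχ).1 2 _ hh (by omega) hnp)
        omega
      · omega
    · exfalso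
      have h1 : 5 * p ≤ k * p := Nat.mul_le_mul_right p hk5
      have hA : 1 + (A.card - 1) * (p - 1) ≤ SA := by
        rw [hSAdef, ← Finset.add_sum_erase _ _ htA, htdeg]
        refine Nat.add_le_add_left ?_ 1
        rw [← Finset.card_erase_of_mem htA, ← smul_eq_mul]
        exact Finset.card_nsmul_le_sum _ _ _ fun ψ hψ =>
          (Nat.sub_le p 1).trans ((Nat.le_add_right _ _).trans
            (hAge ψ (Finset.mem_erase.1 hψ).2 (Finset.mem_erase.1 hψ).1))
      have hB : (5 * p - 1) + (B.card - 1) * (p - 1) ≤ SB := by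
        rw [hSBdef, ← Finset.add_sum_erase _ _ hχ]
        refine Nat.add_le_add (by omega) ?_
        rw [← Finset.card_erase_of_mem hχ, ← smul_eq_mul]
        refine Finset.card_nsmul_le_sum _ _ _ fun ψ hψ => ?_
        obtain ⟨k', hk1', hk'⟩ := hBge ψ (Finset.mem_erase.1 hψ).2
        have : 1 * p ≤ k' * p := Nat.mul_le_mul_right p hk1'
        omega
      have hA0 : 1 ≤ A.card := Finset.card_pos.2 ⟨_, htA⟩
      have hB0 : 1 ≤ B.card := Finset.card_pos.2 ⟨χ, hχ⟩
      obtain ⟨a', ha'⟩ : ∃ a', A.card = a' + 1 := ⟨A.card - 1, by omega⟩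
      obtain ⟨b'', hb''⟩ : ∃ b'', B.card = b'' + 1 := ⟨B.card - 1, by omega⟩
      obtain ⟨w, hw⟩ : ∃ w, D = w + 3 := ⟨D - 3, by omega⟩
      rw [ha', Nat.add_sub_cancel, show p - 1 = 2 * (w + 2) by omega] at hA
      rw [hb'', Nat.add_sub_cancel, show p - 1 = 2 * (w + 2) by omega,
        show 5 * p - 1 = 10 * w + 24 by omega] at hB
      have hab : a' + b'' = w := by omega
      have hmul : a' * (2 * (w + 2)) + b'' * (2 * (w + 2)) = w * (2 * (w + 2)) := by rw [← hab]; ring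
      have hSS : (SA : ℤ) + D = SB := by linarith
      zify at hA hB hSB hmul
      rw [hw] at hSB hSS
      push_cast at hSB hSS
      nlinarith
  have hBz : ∀ χ ∈ B, (χ : G → ℂ) z = 0 := fun χ hχ =>
    C.apply_eq_zero hz hzodd (fun h => (Finset.mem_filter.1 hχ).2 (h ▸ C.eX_triv)) (hBdeg χ hχ)
  -- the pairs of conjugates of `z` with product `u`
  let R : ℝ := (∑ χ ∈ A, (v χ : ℝ) ^ 2 / (charDegree (χ : G → ℂ) : ℝ)) + (v θ : ℝ) ^ 2 / (D : ℝ)
  have hD0 : (0 : ℝ) < (D : ℝ) := by exact_mod_cast (show 0 < D by omega)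
  have hR : ∑ χ : IrrCharacter G, (χ : G → ℂ) z * conj ((χ : G → ℂ) z) *
      (χ : G → ℂ) (upow u (1 : ZMod p)) / (χ : G → ℂ) 1 = (R : ℂ) := by
    rw [C.sum_pairs z z hzreg hzreg one_ne_zero hθ, hε,
      ← Finset.sum_filter_add_sum_filter_not X (fun χ => εX χ = 1), ← hAdef, ← hBdef,
      Finset.sum_eq_zero (s := B) fun χ hχ => by rw [hBz χ hχ]; simp, add_zero]
    simp only [R, Complex.ofReal_add, Complex.ofReal_sum, Complex.ofReal_div, Complex.ofReal_pow,
      Complex.ofReal_intCast, Complex.ofReal_natCast]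
    push_cast
    rw [sub_eq_add_neg, neg_one_mul, neg_neg]
    refine congrArg₂ (· + ·) (Finset.sum_congr rfl fun χ hχ => ?_) ?_
    · rw [(Finset.mem_filter.1 hχ).2, hv χ, map_intCast, ← charDegree_eq χ]; push_cast; ring
    · rw [hv θ, map_intCast]; ring
  have hR1 : 1 ≤ R := by
    have h1 : (v (trivIrr G) : ℝ) ^ 2 / (charDegree ((trivIrr G : IrrCharacter G) : G → ℂ) : ℝ) = 1 := by
      have := hv (trivIrr G)
      rw [trivIrr_apply] at this
      rw [show v (trivIrr G) = 1 by exact_mod_cast this.symm, htdeg]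
      norm_num
    have h2 : (v (trivIrr G) : ℝ) ^ 2 / (charDegree ((trivIrr G : IrrCharacter G) : G → ℂ) : ℝ) ≤
        ∑ χ ∈ A, (v χ : ℝ) ^ 2 / (charDegree (χ : G → ℂ) : ℝ) :=
      Finset.single_le_sum (f := fun χ : IrrCharacter G => (v χ : ℝ) ^ 2 / (charDegree (χ : G → ℂ) : ℝ))
        (fun χ _ => by positivity) htA
    have h3 : 0 ≤ (v θ : ℝ) ^ 2 / (D : ℝ) := by positivity
    show 1 ≤ _ + _
    linarith
  have hRle : R * D ≤ (SA : ℝ) * D + (D : ℝ) ^ 2 := by
    have hvle : ∀ χ : IrrCharacter G, |(v χ : ℝ)| ≤ (charDegree (χ : G → ℂ) : ℝ) := by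
      intro χ
      have := IsCharacter.norm_le_re (irr_isCharacter χ) z
      rwa [hv χ, ← charDegree_eq χ, Complex.natCast_re, Complex.norm_intCast] at this
    have h1 : ∑ χ ∈ A, (v χ : ℝ) ^ 2 / (charDegree (χ : G → ℂ) : ℝ) ≤ (SA : ℝ) := by
      rw [hSAdef, Nat.cast_sum]
      refine Finset.sum_le_sum fun χ _ => ?_
      have hpos : (0 : ℝ) < (charDegree (χ : G → ℂ) : ℝ) := by exact_mod_cast charDegree_pos χ
      rw [div_le_iff₀ hpos, ← sq_abs, pow_two]
      exact mul_le_mul (hvle χ) (hvle χ) (abs_nonneg _) hpos.le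
    have h2 : (v θ : ℝ) ^ 2 ≤ (D : ℝ) ^ 2 := by
      rw [← sq_abs]
      exact pow_le_pow_left₀ (abs_nonneg _) (by rw [← C.Y_deg θ hθ]; exact hvle θ) 2
    show (_ + _) * _ ≤ _
    rw [add_mul, div_mul_cancel₀ _ hD0.ne']
    exact add_le_add (mul_le_mul_of_nonneg_right h1 hD0.le) h2
  have hcount := card_pairs_mul z z (upow u (1 : ZMod p)) hR
  set N := Nat.card {a : G // IsConj z a ∧ IsConj z (upow u (1 : ZMod p) * a)} with hN
  rw [← hIdef] at hcount
  have hcount' : (N : ℝ) * (Nat.card G : ℝ) = (I : ℝ) * (I : ℝ) * R := by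
    apply Complex.ofReal_injective
    push_cast
    exact hcount
  have hI0 : 0 < I := Nat.pos_of_ne_zero Subgroup.index_ne_zero_of_finite
  have hN0 : N ≠ 0 := by
    intro h
    rw [h, Nat.cast_zero, zero_mul] at hcount'
    have : (0 : ℝ) < (I : ℝ) * (I : ℝ) * R := by
      have : (0 : ℝ) < (I : ℝ) := by exact_mod_cast hI0
      positivity
    linarith
  have hu1 : orderOf (upow u (1 : ZMod p)) = p := by
    haveI : Fact (1 < p) := ⟨hp.out.one_lt⟩
    rw [upow, ZMod.val_one, pow_one]; exact C.frame.orderOf_u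
  have hNp : p ≤ N := le_card_inverting (by omega) hzz hu1 hN0
  have hIpD : I ∣ p * D := by
    have h1 : I ∣ p * 2 ^ b * D := hgD ▸ C.card_G ▸ (Subgroup.centralizer ({z} : Set G)).index_dvd_card
    rw [show p * 2 ^ b * D = 2 ^ b * (p * D) by ring] at h1
    exact ((Nat.prime_two.coprime_iff_not_dvd.2 hzodd).symm.pow_right b).dvd_of_dvd_mul_left h1
  have hIle : (I : ℝ) ≤ (p : ℝ) * D := by
    exact_mod_cast Nat.le_of_dvd (Nat.mul_pos hp.out.pos (by omega)) hIpD
  have hb_le : 2 ^ b ≤ D * D * D := by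
    have h1 : (p : ℝ) * (Nat.card G : ℝ) ≤ (I : ℝ) * (I : ℝ) * R :=
      hcount' ▸ mul_le_mul_of_nonneg_right (by exact_mod_cast hNp) (Nat.cast_nonneg _)
    have h2 : (I : ℝ) * (I : ℝ) * R ≤ ((p : ℝ) * D) * ((p : ℝ) * D) * R :=
      mul_le_mul_of_nonneg_right (mul_le_mul hIle hIle (Nat.cast_nonneg _) (by positivity)) (by linarith)
    rw [C.card_G, hgD] at h1
    push_cast at h1
    have hp0 : (0 : ℝ) < (p : ℝ) := by exact_mod_cast hp.out.pos
    have h3 : (2 : ℝ) ^ b ≤ R * D := by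
      have h4 : ((p : ℝ) * p * D) * (2 : ℝ) ^ b ≤ ((p : ℝ) * p * D) * (R * D) := by nlinarith
      exact le_of_mul_le_mul_left h4 (by positivity)
    have hSS : (SA : ℝ) + D = SB := by
      have h6 : (SA : ℤ) + D = SB := by linarith
      exact_mod_cast h6
    have hSB' : (SB : ℝ) ≤ (D : ℝ) * D := by exact_mod_cast hSB
    have h7 : (2 : ℝ) ^ b ≤ (D : ℝ) * D * D := by nlinarith
    exact_mod_cast h7
  have hmod : (2 : ZMod p) ^ b = -1 := by
    have hn1 : ((Nat.card (Sylow p G) : ℕ) : ZMod p) = ((1 : ℕ) : ZMod p) :=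
      (ZMod.natCast_eq_natCast_iff _ _ _).2 (card_sylow_modEq_one p G)
    have hD' : (D : ZMod p) = -(e : ZMod p) := by
      rw [eq_neg_iff_add_eq_zero, ← Nat.cast_add, hDe, ZMod.natCast_self]
    have h := congrArg (fun n : ℕ => (n : ZMod p)) hcardeq
    simp only [Nat.cast_mul, hn1, Nat.cast_one, mul_one, Nat.cast_pow, hD'] at h
    have he0 : (e : ZMod p) ≠ 0 := by
      rw [Ne, ZMod.natCast_eq_zero_iff]
      exact fun h => absurd (Nat.le_of_dvd (by omega) h) (by omega)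
    have h' : ((2 : ZMod p) ^ b + 1) * (e : ZMod p) = 0 := by push_cast at h; linear_combination h
    exact eq_neg_of_add_eq_zero_left ((mul_eq_zero.1 h').resolve_right he0)
  have hb := eq_of_two_pow_modEq hDs hps hmod hb_le hs1
  left
  refine ⟨s + 1, Or.inl hps, C.finish ?_⟩
  refine Nat.eq_of_mul_eq_mul_left (show 0 < e by omega) ?_
  rw [hcardeq, hb, pow_succ, ← hs, ← hDhalf]
  ring

end Ctx

end Cfsg.Agent.Lib.BrauerTuan
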