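import Cfsg.Agent.Lib.BrauerTuan.Counting
import Cfsg.Agent.Lib.Characters.Values

/-!
# The exceptional degree `e`
-/

set_option autoImplicit false
set_option linter.unusedSectionVars false
set_option linter.style.haveILetI false
set_option maxHeartbeats 1000000

namespace Cfsg.Agent.Lib.BrauerTuan

open Cfsg Cfsg.Agent.Lib.Characters Cfsg.Agent.Lib.Blocks
open Cfsg.Agent.Lib.BrauerPrime (cpow)
open scoped ComplexConjugate

universe u

section Fourier

variable {n : ℕ} [NeZero n]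

theorem fourier_inv (F : ZMod n → ℂ) (l₀ : ZMod n) :
    ∑ s : ZMod n, ZMod.stdAddChar (-(s * l₀)) * ∑ l : ZMod n, F l * ZMod.stdAddChar (s * l) =
      n * F l₀ := by
  simp only [Finset.mul_sum]
  rw [Finset.sum_comm, Finset.sum_eq_single l₀]
  · rw [Finset.sum_congr rfl (g := fun _ => F l₀) fun s _ => ?_, Finset.sum_const, Finset.card_univ,
      ZMod.card, nsmul_eq_mul]
    have h : ZMod.stdAddChar (-(s * l₀)) * ZMod.stdAddChar (s * l₀) = 1 := by
      rw [← AddChar.map_add_eq_mul, neg_add_cancel, AddChar.map_zero_eq_one]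
    linear_combination F l₀ * h
  · intro l _ hl
    rw [Finset.sum_congr rfl (g := fun s => F l * ZMod.stdAddChar (s * (l - l₀))) fun s _ => ?_,
      ← Finset.mul_sum, BrauerPrime.Frame.sum_stdAddChar_eq, if_neg (sub_ne_zero.2 hl), mul_zero]
    have h : ZMod.stdAddChar (-(s * l₀)) * ZMod.stdAddChar (s * l) =
        ZMod.stdAddChar (s * (l - l₀)) := by
      rw [← AddChar.map_add_eq_mul]
      congr 1
      ring
    linear_combination F l * h
  · exact fun h => absurd (Finset.mem_univ l₀) h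

theorem parseval_nat (m : ZMod n → ℕ) :
    ∑ s : ZMod n, Complex.normSq (∑ l : ZMod n, (m l : ℂ) * ZMod.stdAddChar (s * l)) =
      (n : ℝ) * ∑ l : ZMod n, (m l : ℝ) ^ 2 := by
  apply Complex.ofReal_injective
  push_cast
  calc ∑ s : ZMod n, (Complex.normSq (∑ l : ZMod n, (m l : ℂ) * ZMod.stdAddChar (s * l)) : ℂ)
      = ∑ s : ZMod n, ∑ l₀ : ZMod n, (m l₀ : ℂ) *
          (ZMod.stdAddChar (-(s * l₀)) * ∑ l : ZMod n, (m l : ℂ) * ZMod.stdAddChar (s * l)) := by
        refine Finset.sum_congr rfl fun s _ => ?_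
        rw [Complex.normSq_eq_conj_mul_self, map_sum, Finset.sum_mul]
        refine Finset.sum_congr rfl fun l₀ _ => ?_
        rw [map_mul, map_natCast, ← AddChar.map_neg_eq_conj, mul_assoc]
    _ = _ := by
        rw [Finset.sum_comm, Finset.mul_sum]
        refine Finset.sum_congr rfl fun l₀ _ => ?_
        rw [← Finset.mul_sum, fourier_inv (fun l => (m l : ℂ))]
        ring

theorem sum_sq_ge_of_ne (m : ZMod n → ℕ) {i j : ZMod n} (hne : m i ≠ m j) :
    (n : ℤ) - 1 ≤ (n : ℤ) * ∑ l, (m l : ℤ) ^ 2 - (∑ l, (m l : ℤ)) ^ 2 := by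
  classical
  set f : ZMod n → ℤ := fun l => (m l : ℤ) with hf
  have hij : i ≠ j := fun h => hne (h ▸ rfl)
  have hfne : f i ≠ f j := fun h => hne (by simpa [hf] using h)
  have key : ∑ a, ∑ c, (f a - f c) ^ 2 = 2 * ((n : ℤ) * ∑ l, f l ^ 2 - (∑ l, f l) ^ 2) := by
    simp only [sub_sq, Finset.sum_sub_distrib, Finset.sum_add_distrib, Finset.sum_const, Finset.card_univ,
      ZMod.card, nsmul_eq_mul, mul_assoc, ← Finset.mul_sum, ← Finset.sum_mul]
    ring
  have hpair : ∀ c, 1 ≤ (f i - f c) ^ 2 + (f j - f c) ^ 2 := by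
    intro c
    by_cases h : f i = f c
    · have h1 : 0 < (f j - f c) ^ 2 := pow_two_pos_of_ne_zero (sub_ne_zero.2 fun h2 => hfne (h.trans h2.symm))
      have h2 := sq_nonneg (f i - f c)
      omega
    · have h1 : 0 < (f i - f c) ^ 2 := pow_two_pos_of_ne_zero (sub_ne_zero.2 h)
      have h2 := sq_nonneg (f j - f c)
      omega
  have hrow : (n : ℤ) ≤ ∑ c, ((f i - f c) ^ 2 + (f j - f c) ^ 2) := by
    have := Finset.card_nsmul_le_sum (Finset.univ : Finset (ZMod n)) _ (1 : ℤ) fun c _ => hpair c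
    simpa [ZMod.card] using this
  set S := (Finset.univ : Finset (ZMod n)) \ {i, j} with hS
  have hcard : (S.card : ℤ) = (n : ℤ) - 2 := by
    have h2 : ({i, j} : Finset (ZMod n)).card = 2 := Finset.card_pair hij
    have h3 := Finset.card_sdiff_add_card_eq_card (Finset.subset_univ ({i, j} : Finset (ZMod n)))
    rw [Finset.card_univ, ZMod.card, h2, ← hS] at h3
    omega
  have hcol : (n : ℤ) - 2 ≤ ∑ a ∈ S, ∑ c, (f a - f c) ^ 2 := by
    rw [← hcard, show (S.card : ℤ) = S.card • (1 : ℤ) by simp]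
    refine Finset.card_nsmul_le_sum S _ 1 fun a _ => ?_
    have h1 : ∑ c ∈ ({i, j} : Finset (ZMod n)), (f a - f c) ^ 2 ≤ ∑ c, (f a - f c) ^ 2 :=
      Finset.sum_le_sum_of_subset_of_nonneg (Finset.subset_univ _) fun c _ _ => sq_nonneg _
    rw [Finset.sum_pair hij, sub_sq_comm (f a) (f i), sub_sq_comm (f a) (f j)] at h1
    exact (hpair a).trans h1
  have hsplit := Finset.sum_sdiff (f := fun a => ∑ c, (f a - f c) ^ 2)
    (Finset.subset_univ ({i, j} : Finset (ZMod n)))
  rw [← hS, Finset.sum_pair hij, key, ← Finset.sum_add_distrib] at hsplit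
  have : 2 * ((n : ℤ) - 1) ≤ 2 * ((n : ℤ) * ∑ l, f l ^ 2 - (∑ l, f l) ^ 2) := by linarith
  linarith

end Fourier

variable {G : Type u} [Group G] [Fintype G] {p : ℕ} [hp : Fact p.Prime]

namespace Ctx

variable {q b g : ℕ} {P : Sylow p G} {u t : G} {r e : ℕ} {X Y : Finset (IrrCharacter G)}
  {εX : IrrCharacter G → ℤ} {ε : ℤ} {D : ℕ}

/-- The exceptional degree is `(p - 1) / 2`. -/
theorem half (C : Ctx p q b g P u t r e X Y εX ε D) (hDe : D = e) :
    Y.card = 2 ∧ 2 * D + 1 = p ∧ g = D := by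
  classical
  have h5 := C.five
  have hY := C.card_Y
  have helt := C.e_lt
  obtain ⟨θ, hθ⟩ : Y.Nonempty := Finset.card_pos.1 (Nat.pos_of_ne_zero fun h => by
    rw [h, zero_mul] at hY; omega)
  have h2 : Y.card = 2 := by
    by_contra h2
    have h1 : 2 ≤ Y.card := by
      by_contra h1
      interval_cases h : Y.card <;> omega
    have h3 : 3 * e ≤ p - 1 := hY ▸ Nat.mul_le_mul_right e (by omega)
    have hsmall : 2 * charDegree (θ : G → ℂ) + 1 < p := by
      rw [C.Y_deg θ hθ]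
      have := C.frame.two_le
      omega
    obtain ⟨M, hM⟩ := exists_isPModular hp.out
    haveI : M.IsPrime := hM.2.1.isPrime
    obtain ⟨v, O, S⟩ := exists_primeSplit (P : Subgroup G) C.frame.card_P
      (BrauerPrime.sq_not_dvd P C.frame.card_P)
    haveI := Fintype.ofFinite O
    haveI := Fintype.ofFinite (Subgroup.centralizer ((P : Subgroup G) : Set G))
    have hgen : ∀ l : G →* ℂˣ, l v = 1 → l = 1 := fun l _ => MonoidHom.ext fun x =>
      MonoidHom.mem_ker.1 (Abelianization.commutator_subset_ker l (C.perfect ▸ Subgroup.mem_top x))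
    haveI := C.simple
    have hθne : θ ≠ trivIrr G := fun h => Finset.disjoint_left.1 C.disj C.triv_mem (h ▸ hθ)
    have hv : v ∈ Subgroup.center G := Subgroup.mem_center_iff.2 fun x => by
      have h4 := BrauerPrime.faithful θ hθne _ (S.comm_eq_of_small hM hgen θ hsmall x)
      rw [mul_inv_eq_one, mul_inv_eq_iff_eq_mul] at h4
      exact h4.symm
    rw [C.center_eq_bot, Subgroup.mem_bot] at hv
    exact S.ne_one hv
  rw [h2] at hY
  obtain ⟨k, hk⟩ := C.D_dvd
  have hglt := C.g_lt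
  have hg0 : g ≠ 0 := fun h => Nat.card_pos.ne' (C.card_G.trans (by rw [h, mul_zero]))
  refine ⟨h2, by omega, ?_⟩
  rcases k with _ | _ | k
  · omega
  · omega
  · exfalso
    have : D * 2 ≤ g := hk ▸ Nat.mul_le_mul_left D (by omega)
    omega

/-- The degrees in `X`. -/
theorem degrees_plus (C : Ctx p q b g P u t r e X Y εX ε D) (hε : ε = 1) (hY : Y.card = 2)
    (hp2 : 2 * D + 1 = p) :
    ¬ 2 ∣ D ∧
    ((∀ χ ∈ X, εX χ = 1 → χ ≠ trivIrr G → charDegree (χ : G → ℂ) = p + 1) ∧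
      (∀ χ ∈ X, εX χ ≠ 1 → charDegree (χ : G → ℂ) = p - 1)) ∧
    2 * ((X.filter fun χ => εX χ = 1).erase (trivIrr G)).card + 1 = D ∧
    ∑ χ ∈ X.filter (fun χ => εX χ = 1), charDegree (χ : G → ℂ) = D * D := by
  classical
  have h5 := C.five
  obtain ⟨θ, θ', hne, hYe⟩ := Finset.card_eq_two.1 hY
  obtain ⟨hSA, hSB, -⟩ := C.split (θ := θ) (θ' := θ') (by simp [hYe]) (by simp [hYe]) hne
  have hrel := C.relation_one
  rw [hε, one_mul] at hrel
  have heD : e = D := by
    rcases C.eps with ⟨-, h⟩ | ⟨h, -⟩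
    · exact h.symm
    · rw [hε] at h; exact absurd h (by norm_num)
  set A := X.filter fun χ => εX χ = 1 with hAdef
  set B := X.filter fun χ => ¬ εX χ = 1 with hBdef
  set A' := A.erase (trivIrr G) with hA'def
  set SA := ∑ χ ∈ A, charDegree (χ : G → ℂ) with hSAdef
  set SB := ∑ χ ∈ B, charDegree (χ : G → ℂ) with hSBdef
  have htA : trivIrr G ∈ A := Finset.mem_filter.2 ⟨C.triv_mem, C.eX_triv⟩
  have hcard : A'.card + 1 + B.card = D := by
    rw [hA'def, Finset.card_erase_add_one htA, hAdef, hBdef, Finset.card_filter_add_card_filter_not,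
      C.card_X, heD]
  have hA : ∀ χ ∈ A', ∃ k : ℕ, charDegree (χ : G → ℂ) = p + 1 + k * p := by
    intro χ hχ
    obtain ⟨hne1, hχA⟩ := Finset.mem_erase.1 hχ
    obtain ⟨h1, h2⟩ := Finset.mem_filter.1 hχA
    have h3 := C.X_mod χ h1
    rw [h2] at h3
    obtain ⟨k, hk⟩ := Int.modEq_iff_dvd.1 h3
    have h4 := charDegree_pos χ
    have h4' : charDegree (χ : G → ℂ) ≠ 1 := fun h =>
      hne1 (BrauerPrime.eq_trivIrr_of_degree_one C.perfect χ h)
    have hk0 : k < 0 := by
      by_contra hk0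
      have : 0 ≤ (p : ℤ) * k := mul_nonneg (by positivity) (by omega)
      omega
    refine ⟨(-k - 1).toNat, ?_⟩
    have h6 : ((((-k - 1).toNat * p : ℕ)) : ℤ) = (-k - 1) * p := by
      push_cast [Int.toNat_of_nonneg (by omega : 0 ≤ -k - 1)]; ring
    have h7 : (-k - 1) * (p : ℤ) = -((p : ℤ) * k) - p := by ring
    omega
  have hB : ∀ χ ∈ B, ∃ k : ℕ, charDegree (χ : G → ℂ) + 1 = p + k * p := by
    intro χ hχ
    obtain ⟨h1, h2⟩ := Finset.mem_filter.1 hχ
    have h3 := C.X_mod χ h1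
    rw [(C.eX χ h1).resolve_left h2] at h3
    obtain ⟨k, hk⟩ := Int.modEq_iff_dvd.1 h3
    have h4 := charDegree_pos χ
    have hk0 : k < 0 := by
      by_contra hk0
      have : 0 ≤ (p : ℤ) * k := mul_nonneg (by positivity) (by omega)
      omega
    refine ⟨(-k - 1).toNat, ?_⟩
    have h6 : ((((-k - 1).toNat * p : ℕ)) : ℤ) = (-k - 1) * p := by
      push_cast [Int.toNat_of_nonneg (by omega : 0 ≤ -k - 1)]; ring
    have h7 : (-k - 1) * (p : ℤ) = -((p : ℤ) * k) - p := by ring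
    omega
  choose kA hkA using hA
  choose kB hkB using hB
  have hSA' : (SA : ℤ) = 1 + (A'.card : ℤ) * (p + 1) + (p : ℤ) * ∑ χ ∈ A'.attach, (kA χ.1 χ.2 : ℤ) := by
    rw [hSAdef, ← Finset.add_sum_erase _ _ htA, ← hA'def, BrauerPrime.charDegree_triv, Nat.cast_add,
      Nat.cast_one, add_assoc, ← Finset.sum_attach A', Nat.cast_sum, Finset.mul_sum,
      ← nsmul_eq_mul, ← Finset.card_attach (s := A'), ← Finset.sum_const, ← Finset.sum_add_distrib]
    refine congrArg _ (Finset.sum_congr rfl fun χ _ => ?_)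
    rw [hkA χ.1 χ.2]
    push_cast
    ring
  have hSB' : (SB : ℤ) = (B.card : ℤ) * (p - 1) + (p : ℤ) * ∑ χ ∈ B.attach, (kB χ.1 χ.2 : ℤ) := by
    rw [hSBdef, ← Finset.sum_attach B, Nat.cast_sum, Finset.mul_sum,
      ← nsmul_eq_mul, ← Finset.card_attach (s := B), ← Finset.sum_const, ← Finset.sum_add_distrib]
    refine Finset.sum_congr rfl fun χ _ => ?_
    have h := hkB χ.1 χ.2
    zify at h
    linarith
  set KA := ∑ χ ∈ A'.attach, (kA χ.1 χ.2 : ℤ) with hKA
  set KB := ∑ χ ∈ B.attach, (kB χ.1 χ.2 : ℤ) with hKB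
  have hKA0 : 0 ≤ KA := Finset.sum_nonneg fun χ _ => Nat.cast_nonneg _
  have hKB0 : 0 ≤ KB := Finset.sum_nonneg fun χ _ => Nat.cast_nonneg _
  have hpZ : (p : ℤ) = 2 * (D : ℤ) + 1 := by omega
  have hcardZ : (A'.card : ℤ) + 1 + (B.card : ℤ) = (D : ℤ) := by exact_mod_cast hcard
  have hSAZ : (SA : ℤ) ≤ (D : ℤ) * D := by exact_mod_cast hSA
  have hSBZ : (SB : ℤ) ≤ (D : ℤ) * D := by exact_mod_cast hSB
  -- no degree exceeds the least possible one
  have hK : KA = 0 ∧ KB = 0 := by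
    have h : (p : ℤ) * (KA + KB) < (p : ℤ) * 1 := by nlinarith
    have h' := lt_of_mul_lt_mul_left h (by positivity)
    omega
  rw [hK.1, mul_zero, add_zero, hpZ] at hSA'
  rw [hK.2, mul_zero, add_zero, hpZ] at hSB'
  have hcnt : 2 * (A'.card : ℤ) + 1 = D := by
    have h1 : (2 * (A'.card : ℤ) + 1 - D) * (2 * (D : ℤ) + 1) = 0 := by nlinarith
    have h2 := (mul_eq_zero.1 h1).resolve_right (by omega)
    omega
  refine ⟨by omega, ⟨fun χ hχ h1 hne1 => ?_, fun χ hχ h1 => ?_⟩, by omega, ?_⟩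
  · have hm : χ ∈ A' := Finset.mem_erase.2 ⟨hne1, Finset.mem_filter.2 ⟨hχ, h1⟩⟩
    have h0 := (Finset.sum_eq_zero_iff_of_nonneg
      fun (i : {x // x ∈ A'}) _ => Nat.cast_nonneg (kA i.1 i.2)).1 hK.1 ⟨χ, hm⟩ (Finset.mem_attach _ _)
    rw [hkA χ hm, Nat.cast_eq_zero.1 h0, zero_mul, add_zero]
  · have hm : χ ∈ B := Finset.mem_filter.2 ⟨hχ, h1⟩
    have h0 := (Finset.sum_eq_zero_iff_of_nonneg
      fun (i : {x // x ∈ B}) _ => Nat.cast_nonneg (kB i.1 i.2)).1 hK.2 ⟨χ, hm⟩ (Finset.mem_attach _ _)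
    have h := hkB χ hm
    rw [Nat.cast_eq_zero.1 h0, zero_mul, add_zero] at h
    omega
  · have h : (SA : ℤ) = (D : ℤ) * D := by rw [hSA', ← hcnt]; ring
    exact_mod_cast h

theorem case_plus (C : Ctx p q b g P u t r e X Y εX ε D) (hε : ε = 1) (hDe : D = e) :
    ∃ m : ℕ, p = 2 ^ m - 1 ∧ BrauerPrime.IsBrauerGroup p G := by
  classical
  haveI := C.simple
  haveI := Fintype.ofFinite (IrrCharacter G)
  have h5 := C.five
  obtain ⟨hY, hp2, hgD⟩ := C.half hDe
  obtain ⟨hDodd, ⟨hdegA, hdegB⟩, hA'card, hSA⟩ := C.degrees_plus hε hY hp2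
  haveI : NeZero e := ⟨by omega⟩
  obtain ⟨θ, θ', hne, hYe⟩ := Finset.card_eq_two.1 hY
  have hθ : θ ∈ Y := by simp [hYe]
  have hθ' : θ' ∈ Y := by simp [hYe]
  have hθθ := (C.split hθ hθ' hne).2.2 hSA
  set A' := (X.filter fun χ => εX χ = 1).erase (trivIrr G) with hA'def
  set B := X.filter fun χ => ¬ εX χ = 1 with hBdef
  set O := (Finset.univ : Finset (IrrCharacter G)) \ (X ∪ Y) with hOdef
  have htA : trivIrr G ∈ X.filter (fun χ => εX χ = 1) := Finset.mem_filter.2 ⟨C.triv_mem, C.eX_triv⟩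
  have hA'mem : ∀ χ ∈ A', χ ∈ X ∧ εX χ = 1 ∧ χ ≠ trivIrr G ∧ charDegree (χ : G → ℂ) = p + 1 := by
    intro χ hχ
    obtain ⟨h1, h2⟩ := Finset.mem_erase.1 hχ
    obtain ⟨h3, h4⟩ := Finset.mem_filter.1 h2
    exact ⟨h3, h4, h1, hdegA χ h3 h4 h1⟩
  have hcardG : Nat.card G = p * q ^ b * D := by rw [C.card_G, hgD]
  -- `q = 2` and `p + 1` is a power of two
  obtain ⟨hq2, m₀, -, hm₀⟩ : q = 2 ∧ ∃ m, m ≤ b ∧ p + 1 = q ^ m := by
    obtain ⟨χ, hχ⟩ : A'.Nonempty := Finset.card_pos.1 (by omega)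
    obtain ⟨hχX, -, hχne, hχd⟩ := hA'mem χ hχ
    have h1 : p + 1 ∣ p * q ^ b * D := by rw [← hχd, ← hcardG]; exact charDegree_dvd_card χ
    have hcop1 : Nat.Coprime (p + 1) p := by simp
    have hcop2 : Nat.Coprime (p + 1) D := by
      rw [show p + 1 = 2 + 2 * D by omega, Nat.coprime_add_mul_right_left]
      exact Nat.prime_two.coprime_iff_not_dvd.2 hDodd
    rw [mul_assoc] at h1
    have h2 := hcop2.dvd_of_dvd_mul_right (hcop1.dvd_of_dvd_mul_left h1)
    obtain ⟨m, hmb, hm⟩ := (Nat.dvd_prime_pow C.prime_q).1 h2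
    refine ⟨?_, m, hmb, hm⟩
    have h3 : 2 ∣ q ^ m := hm ▸ ⟨D + 1, by omega⟩
    exact ((Nat.prime_dvd_prime_iff_eq Nat.prime_two C.prime_q).1 (Nat.prime_two.dvd_of_dvd_pow h3)).symm
  subst hq2
  -- the involution
  have hG2 : 2 ∣ Nat.card G := by
    rw [hcardG]
    refine dvd_mul_of_dvd_left (dvd_mul_of_dvd_right (dvd_pow_self 2 fun hb => ?_) _) _
    have h := C.card_eq'
    rw [hb, pow_zero, one_mul, hgD, ← hDe] at h
    have h1 := Sylow.not_dvd_index P
    have h2 : Nat.card (Sylow p G) = 1 := Nat.eq_of_mul_eq_mul_left (by omega) (h.trans (mul_one D).symm)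
    have h3 := P.card_eq_index_normalizer.symm.trans h2
    rw [Subgroup.index_eq_one] at h3
    haveI : (P : Subgroup G).Normal := Subgroup.normalizer_eq_top_iff.1 h3
    rcases IsSimpleGroup.eq_bot_or_eq_top_of_normal (P : Subgroup G) inferInstance with h4 | h4
    · exact C.frame.ne_one (Subgroup.mem_bot.1 (h4 ▸ C.frame.mem))
    · have h5' : Nat.card (P : Subgroup G) = Nat.card G := by rw [h4, Subgroup.card_top]
      rw [C.frame.card_P, hcardG, hb, pow_zero, mul_one] at h5'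
      have : p * 2 ≤ p * D := Nat.mul_le_mul_left p (by omega)
      omega
  obtain ⟨z, hz, hzodd⟩ := exists_involution_odd_index hG2
  have hzreg : ¬ p ∣ orderOf z := by
    rw [hz]; exact fun h => absurd (Nat.le_of_dvd (by norm_num) h) (by omega)
  have hzA : ∀ χ ∈ A', (χ : G → ℂ) z = 0 := fun χ hχ =>
    C.apply_eq_zero hz hzodd (hA'mem χ hχ).2.2.1 ((hA'mem χ hχ).2.2.2.trans hm₀)
  -- the elements of the torus
  have hyreg : ∀ s : ZMod e, ¬ p ∣ orderOf (cpow t s) := C.frame.not_dvd_cpow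
  have hydvd : ∀ s : ZMod e, orderOf (cpow t s) ∣ D := fun s =>
    hDe ▸ (orderOf_pow_dvd s.val).trans C.frame.order.dvd
  have hvan : ∀ χ : IrrCharacter G, D ∣ charDegree (χ : G → ℂ) → ∀ s : ZMod e, s ≠ 0 →
      (χ : G → ℂ) (cpow t s) = 0 := by
    intro χ hχ s hs
    have hord1 : orderOf (cpow t s) ≠ 1 := fun h =>
      hs (C.frame.cpow_t_eq_one (orderOf_eq_one_iff.1 h))
    obtain ⟨l, hl, hly⟩ := Nat.exists_prime_and_dvd hord1
    refine vanish_of_defect_zero χ.2 hl (charDegree_eq χ).symm ?_ hly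
    have hlD : l ∣ D := hly.trans (hydvd s)
    have hlp : Nat.Coprime l p := (Nat.coprime_primes hl hp.out).2 fun h => by
      have := Nat.le_of_dvd (by omega) hlD
      omega
    have hl2 : Nat.Coprime l 2 := (Nat.coprime_primes hl Nat.prime_two).2 fun h => hDodd (h ▸ hlD)
    have h1 := Nat.ordProj_dvd (Nat.card G) l
    refine dvd_trans ?_ hχ
    exact ((Nat.Coprime.mul_right hlp (hl2.pow_right b)).pow_left _).dvd_of_dvd_mul_left
      (hcardG ▸ h1)
  have hvB : ∀ χ ∈ B, ∀ s : ZMod e, s ≠ 0 → (χ : G → ℂ) (cpow t s) = 0 := fun χ hχ => by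
    obtain ⟨h1, h2⟩ := Finset.mem_filter.1 hχ
    exact hvan χ (by rw [hdegB χ h1 h2]; exact ⟨2, by omega⟩)
  have hvY : ∀ χ ∈ Y, ∀ s : ZMod e, s ≠ 0 → (χ : G → ℂ) (cpow t s) = 0 := fun χ hχ =>
    hvan χ (by rw [C.Y_deg χ hχ])
  -- sums over all characters of functions that vanish on `B` and `Y`
  have hsplit : ∀ f : IrrCharacter G → ℂ, (∀ χ ∈ B, f χ = 0) → (∀ χ ∈ Y, f χ = 0) →
      ∑ χ, f χ = f (trivIrr G) + ∑ χ ∈ A', f χ + ∑ χ ∈ O, f χ := by
    intro f hfB hfY
    rw [← Finset.sum_sdiff (Finset.subset_univ (X ∪ Y)), ← hOdef, Finset.sum_union C.disj,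
      ← Finset.sum_filter_add_sum_filter_not X (fun χ => εX χ = 1), ← hBdef, Finset.sum_eq_zero hfB,
      Finset.sum_eq_zero hfY, ← Finset.add_sum_erase _ _ htA, ← hA'def]
    ring
  have hsplitR : ∀ f : IrrCharacter G → ℝ, (∀ χ ∈ B, f χ = 0) → (∀ χ ∈ Y, f χ = 0) →
      ∑ χ, f χ = f (trivIrr G) + ∑ χ ∈ A', f χ + ∑ χ ∈ O, f χ := by
    intro f hfB hfY
    rw [← Finset.sum_sdiff (Finset.subset_univ (X ∪ Y)), ← hOdef, Finset.sum_union C.disj,
      ← Finset.sum_filter_add_sum_filter_not X (fun χ => εX χ = 1), ← hBdef, Finset.sum_eq_zero hfB,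
      Finset.sum_eq_zero hfY, ← Finset.add_sum_erase _ _ htA, ← hA'def]
    ring
  set I := (Subgroup.centralizer ({z} : Set G)).index with hIdef
  have hIpD : I ∣ p * D := by
    have h1 : I ∣ p * 2 ^ b * D := hcardG ▸ (Subgroup.centralizer ({z} : Set G)).index_dvd_card
    rw [show p * 2 ^ b * D = 2 ^ b * (p * D) by ring] at h1
    exact ((Nat.prime_two.coprime_iff_not_dvd.2 hzodd).symm.pow_right b).dvd_of_dvd_mul_left h1
  -- the centralizers in the torus
  have hcentle : ∀ s : ZMod e, s ≠ 0 →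
      Nat.card (Subgroup.centralizer ({cpow t s} : Set G)) = D := by
    intro s hs
    set y := cpow t s with hy
    have hR : ∑ χ : IrrCharacter G, (χ : G → ℂ) z * conj ((χ : G → ℂ) y) *
        (χ : G → ℂ) (upow u (1 : ZMod p)) / (χ : G → ℂ) 1 = 1 := by
      rw [C.sum_pairs z y hzreg (hyreg s) one_ne_zero hθ, hvY θ hθ s hs, map_zero, mul_zero, zero_div,
        mul_zero, sub_zero, Finset.sum_eq_single (trivIrr G)]
      · simp [C.eX_triv, trivIrr_apply]
      · intro χ hχ hne1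
        by_cases h : εX χ = 1
        · rw [hzA χ (Finset.mem_erase.2 ⟨hne1, Finset.mem_filter.2 ⟨hχ, h⟩⟩)]; simp
        · rw [hvB χ (Finset.mem_filter.2 ⟨hχ, h⟩) s hs]; simp
      · exact fun h => absurd C.triv_mem h
    have h := card_pairs_mul z y (upow u (1 : ZMod p)) hR
    rw [mul_one, ← hIdef] at h
    have h' : Nat.card {a : G // IsConj z a ∧ IsConj y (upow u (1 : ZMod p) * a)} * Nat.card G =
        I * (Subgroup.centralizer ({y} : Set G)).index := by exact_mod_cast h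
    rw [← Subgroup.card_mul_index (Subgroup.centralizer ({y} : Set G)), ← mul_assoc] at h'
    have h2 := Nat.eq_of_mul_eq_mul_right (Nat.pos_of_ne_zero Subgroup.index_ne_zero_of_finite) h'
    have hcpD : Nat.card (Subgroup.centralizer ({y} : Set G)) ∣ p * D := (Dvd.intro_left _ h2).trans hIpD
    have hnp : ¬ p ∣ Nat.card (Subgroup.centralizer ({y} : Set G)) := by
      intro hd
      obtain ⟨w, hw⟩ := exists_prime_orderOf_dvd_card' p hd
      have hcomm : Commute (w : G) y := Subgroup.mem_centralizer_singleton_iff.1 w.2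
      have hwo : orderOf (w : G) = p := by rw [Subgroup.orderOf_coe, hw]
      have hco : (orderOf (w : G)).Coprime (orderOf y) :=
        hwo ▸ hp.out.coprime_iff_not_dvd.2 (hyreg s)
      have hmul := hcomm.orderOf_mul_eq_mul_orderOf_of_coprime hco
      rw [hwo] at hmul
      obtain ⟨i, hi, hwi⟩ := C.frame.exists_conj_upow (g := (w : G) * y) (hmul ▸ dvd_mul_right _ _)
      rw [BrauerPrime.orderOf_eq_of_isConj hwi, orderOf_of_mem_prime C.frame.card_P
        (upow_mem C.frame.mem i) fun h'' => hi ((upow_eq_one_iff C.frame.orderOf_u i).1 h'')] at hmul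
      have : orderOf y = 1 := Nat.eq_of_mul_eq_mul_left hp.out.pos (hmul.symm.trans (mul_one p).symm)
      exact hs (C.frame.cpow_t_eq_one (orderOf_eq_one_iff.1 this))
    refine Nat.dvd_antisymm
      (((hp.out.coprime_iff_not_dvd.2 hnp).symm).dvd_of_dvd_mul_left hcpD) ?_
    have ht : t ∈ Subgroup.centralizer ({y} : Set G) :=
      Subgroup.mem_centralizer_singleton_iff.2 (Commute.self_pow t s.val)
    exact (hDe.trans C.frame.order.symm) ▸ Subgroup.orderOf_dvd_natCard _ ht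
  -- the multiplicities
  choose m hm using fun χ l => C.frame.mu_nat χ l
  have hval : ∀ χ : IrrCharacter G, ∀ s : ZMod e, s ≠ 0 →
      (χ : G → ℂ) (cpow t s) = ∑ l, (m χ l : ℂ) * ZMod.stdAddChar (s * l) := fun χ s hs => by
    rw [C.frame.apply_cpow χ hs]
    exact Finset.sum_congr rfl fun l _ => by rw [hm]
  have hpC : (p : ℂ) ≠ 0 := Nat.cast_ne_zero.2 hp.out.ne_zero
  have hfix : ∀ χ, (p : ℂ) * (∑ l, (m χ l : ℂ)) =
      (χ : G → ℂ) 1 + ∑ i ∈ Finset.univ.erase (0 : ZMod p), (χ : G → ℂ) (upow u i) := by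
    intro χ
    rw [← Finset.sum_congr rfl fun l _ => hm χ l, C.frame.sum_mu χ, BrauerPrime.Frame.fix,
      mul_inv_cancel_left₀ hpC, ← Finset.add_sum_erase _ _ (Finset.mem_univ (0 : ZMod p)), upow_zero]
  have hcardE : ((Finset.univ.erase (0 : ZMod p)).card : ℂ) = (p : ℂ) - 1 := by
    rw [Finset.card_erase_of_mem (Finset.mem_univ _), Finset.card_univ, ZMod.card,
      Nat.cast_sub hp.out.one_le, Nat.cast_one]
  have hfixA : ∀ χ ∈ A', ∑ l, m χ l = 2 := by
    intro χ hχ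
    obtain ⟨h1, h2, -, h4⟩ := hA'mem χ hχ
    have h := hfix χ
    rw [Finset.sum_congr (rfl : Finset.univ.erase (0 : ZMod p) = _) (g := fun _ => (1 : ℂ)) fun i hi => by
      rw [C.X_val χ h1 i (Finset.mem_erase.1 hi).1, h2, Int.cast_one], Finset.sum_const, nsmul_eq_mul,
      mul_one, hcardE, ← charDegree_eq χ, h4] at h
    have h' : (p : ℂ) * (((∑ l, m χ l : ℕ) : ℂ) - 2) = 0 := by push_cast at h ⊢; linear_combination h
    exact_mod_cast sub_eq_zero.1 ((mul_eq_zero.1 h').resolve_left hpC)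
  have hfixO : ∀ χ ∈ O, charDegree (χ : G → ℂ) = p * ∑ l, m χ l := by
    intro χ hχ
    have h := hfix χ
    rw [Finset.sum_eq_zero fun i hi => C.vanish χ (Finset.mem_sdiff.1 hχ).2 i (Finset.mem_erase.1 hi).1,
      add_zero, ← charDegree_eq χ] at h
    exact_mod_cast h.symm
  -- each linear character occurs once
  have hyne : ∀ s : ZMod e, s ≠ 0 → cpow t s ≠ 1 := fun s hs h => hs (C.frame.cpow_t_eq_one h)
  have hAy : ∀ s : ZMod e, s ≠ 0 → ∑ χ ∈ A', (χ : G → ℂ) (cpow t s) = -1 := by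
    intro s hs
    have h := hθθ (cpow t s)
    rw [hvY θ hθ s hs, zero_mul, ← Finset.add_sum_erase _ _ htA, ← hA'def, trivIrr_apply] at h
    linear_combination -h
  have hm01 : ∀ χ ∈ A', ∀ l, m χ l ≤ 1 := by
    intro χ hχ l
    let F : ZMod e → ℂ := fun l => (if l = 0 then (1 : ℂ) else 0) + ∑ χ ∈ A', (m χ l : ℂ)
    have hΦ : ∀ s : ZMod e, ∑ l, F l * ZMod.stdAddChar (s * l) = if s = 0 then (e : ℂ) else 0 := by
      intro s
      simp only [F, add_mul, Finset.sum_add_distrib, ite_mul, one_mul, zero_mul, Finset.sum_ite_eq',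
        Finset.mem_univ, if_true, mul_zero, AddChar.map_zero_eq_one, Finset.sum_mul]
      rw [Finset.sum_comm]
      split_ifs with hs
      · subst hs
        simp only [zero_mul, AddChar.map_zero_eq_one, mul_one]
        rw [Finset.sum_congr rfl (g := fun _ => (2 : ℂ)) fun χ hχ => by exact_mod_cast hfixA χ hχ,
          Finset.sum_const, nsmul_eq_mul, ← hDe, ← hA'card]
        push_cast
        ring
      · rw [Finset.sum_congr rfl fun χ _ => (hval χ s hs).symm, hAy s hs, add_neg_cancel]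
    have h := fourier_inv F l
    rw [Finset.sum_eq_single (0 : ZMod e)] at h
    · rw [hΦ, if_pos rfl, zero_mul, neg_zero, AddChar.map_zero_eq_one, one_mul] at h
      have hF : F l = 1 := (mul_eq_left₀ (Nat.cast_ne_zero.2 (NeZero.ne e))).1 h.symm
      have hF' : (if l = 0 then 1 else 0) + ∑ χ ∈ A', m χ l = 1 := by
        have h2 : (((if l = 0 then 1 else 0) + ∑ χ ∈ A', m χ l : ℕ) : ℂ) = ((1 : ℕ) : ℂ) := by
          push_cast; exact hF
        exact Nat.cast_injective h2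
      exact (Finset.single_le_sum (f := fun χ => m χ l) (fun _ _ => Nat.zero_le _) hχ).trans (by omega)
    · intro s _ hs
      rw [hΦ, if_neg hs, mul_zero]
    · exact fun h' => absurd (Finset.mem_univ _) h'
  -- the mass of a character on the torus
  let E := Finset.univ.erase (0 : ZMod e)
  let T : IrrCharacter G → ℝ := fun χ => ∑ s ∈ E, Complex.normSq ((χ : G → ℂ) (cpow t s))
  have hT : ∀ χ, T χ = (((e : ℤ) * ∑ l, (m χ l : ℤ) ^ 2 - (∑ l, (m χ l : ℤ)) ^ 2 : ℤ) : ℝ) := by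
    intro χ
    have h := parseval_nat (m χ)
    rw [← Finset.add_sum_erase _ _ (Finset.mem_univ (0 : ZMod e))] at h
    have h0 : Complex.normSq (∑ l, (m χ l : ℂ) * ZMod.stdAddChar ((0 : ZMod e) * l)) =
        (∑ l, (m χ l : ℝ)) ^ 2 := by
      simp only [zero_mul, AddChar.map_zero_eq_one, mul_one]
      rw [← Nat.cast_sum, Complex.normSq_natCast, ← pow_two, Nat.cast_sum]
    rw [h0] at h
    show ∑ s ∈ E, _ = _
    rw [Finset.sum_congr rfl fun s hs => by rw [hval χ s (Finset.mem_erase.1 hs).1]]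
    push_cast
    linarith
  have hEcard : E.card = D - 1 := by
    rw [Finset.card_erase_of_mem (Finset.mem_univ _), Finset.card_univ, ZMod.card, hDe]
  have hTtot : ∑ χ, T χ = ((D : ℝ) - 1) * D := by
    rw [Finset.sum_comm, Finset.sum_congr rfl (g := fun _ => (D : ℝ)), Finset.sum_const, nsmul_eq_mul,
      hEcard, Nat.cast_sub (by omega), Nat.cast_one]
    intro s hs
    apply Complex.ofReal_injective
    rw [Complex.ofReal_sum, Finset.sum_congr rfl fun χ _ => (Complex.mul_conj _).symm, sum_irr_mul_conj,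
      if_pos (IsConj.refl _), hcentle s (Finset.mem_erase.1 hs).1]
    simp
  have hTA : ∀ χ ∈ A', T χ = 2 * (D : ℝ) - 4 := by
    intro χ hχ
    have h1 : ∑ l, (m χ l : ℤ) ^ 2 = ∑ l, (m χ l : ℤ) := Finset.sum_congr rfl fun l _ => by
      have := hm01 χ hχ l
      interval_cases m χ l <;> norm_num
    have h2 : ∑ l, (m χ l : ℤ) = 2 := by exact_mod_cast hfixA χ hχ
    rw [hT χ, h1, h2, ← hDe]
    push_cast
    ring
  have hTO : ∑ χ ∈ O, T χ = (D : ℝ) - 1 := by
    have h := hsplitR T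
      (fun χ hχ => Finset.sum_eq_zero fun s hs => by rw [hvB χ hχ s (Finset.mem_erase.1 hs).1, map_zero])
      (fun χ hχ => Finset.sum_eq_zero fun s hs => by rw [hvY χ hχ s (Finset.mem_erase.1 hs).1, map_zero])
    have htriv : T (trivIrr G) = (D : ℝ) - 1 := by
      show ∑ s ∈ E, _ = _
      rw [Finset.sum_congr rfl (g := fun _ => (1 : ℝ)) fun s _ => by rw [trivIrr_apply, map_one],
        Finset.sum_const, nsmul_eq_mul, mul_one, hEcard, Nat.cast_sub (by omega), Nat.cast_one]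
    rw [hTtot, htriv, Finset.sum_congr rfl hTA, Finset.sum_const, nsmul_eq_mul] at h
    have hk : 2 * (A'.card : ℝ) + 1 = D := by exact_mod_cast hA'card
    nlinarith
  have hTpos : ∀ χ ∈ O, T χ = 0 ∨ (D : ℝ) - 1 ≤ T χ := by
    intro χ _
    by_cases hc : ∃ i j, m χ i ≠ m χ j
    · obtain ⟨i, j, hij⟩ := hc
      right
      rw [hT χ, hDe]
      exact_mod_cast sum_sq_ge_of_ne (m χ) hij
    · left
      push Not at hc
      rw [hT χ]
      simp only [fun l => hc l 0, Finset.sum_const, Finset.card_univ, ZMod.card]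
      push_cast [nsmul_eq_mul]
      ring
  have hD3 : (3 : ℝ) ≤ D := by exact_mod_cast (show 3 ≤ D by omega)
  obtain ⟨ξ, hξ, hξT⟩ : ∃ χ ∈ O, T χ ≠ 0 := by
    refine Finset.exists_ne_zero_of_sum_ne_zero ?_
    rw [hTO]
    linarith
  have hξge := (hTpos ξ hξ).resolve_left hξT
  have hTnn : ∀ χ, 0 ≤ T χ := fun χ => Finset.sum_nonneg fun s _ => Complex.normSq_nonneg _
  have hOrest : ∀ χ ∈ O, χ ≠ ξ → ∀ s : ZMod e, s ≠ 0 → (χ : G → ℂ) (cpow t s) = 0 := by
    intro χ hχ hne1 s hs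
    have h0 : T χ = 0 := by
      by_contra h0
      have h1 := (hTpos χ hχ).resolve_left h0
      have h2 : ∑ ψ ∈ ({χ, ξ} : Finset (IrrCharacter G)), T ψ ≤ ∑ ψ ∈ O, T ψ :=
        Finset.sum_le_sum_of_subset_of_nonneg (by simp [Finset.insert_subset_iff, hχ, hξ]) fun ψ _ _ => hTnn ψ
      rw [Finset.sum_pair hne1, hTO] at h2
      linarith
    exact Complex.normSq_eq_zero.1 ((Finset.sum_eq_zero_iff_of_nonneg fun s _ =>
      Complex.normSq_nonneg _).1 h0 s (Finset.mem_erase.2 ⟨hs, Finset.mem_univ _⟩))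
  have hTξ : T ξ = (D : ℝ) - 1 := by
    rw [← hTO, Finset.sum_eq_single ξ]
    · intro χ hχ hne1
      exact Finset.sum_eq_zero fun s hs => by rw [hOrest χ hχ hne1 s (Finset.mem_erase.1 hs).1, map_zero]
    · exact fun h => absurd hξ h
  set H := ∑ l, m ξ l with hH
  have hξy : ∀ s : ZMod e, s ≠ 0 → (H : ℂ) * (ξ : G → ℂ) (cpow t s) = 1 := by
    intro s hs
    have h := sum_irr_mul_conj (cpow t s) (1 : G)
    rw [if_neg fun h => hyne s hs (isConj_one_left.1 h)] at h
    rw [hsplit _ (fun χ hχ => by rw [hvB χ hχ s hs, zero_mul]) (fun χ hχ => by rw [hvY χ hχ s hs, zero_mul]),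
      Finset.sum_congr rfl (g := fun χ : IrrCharacter G => (χ : G → ℂ) (cpow t s) * ((p + 1 : ℕ) : ℂ))
        fun χ hχ => by rw [← charDegree_eq χ, (hA'mem χ hχ).2.2.2, map_natCast],
      ← Finset.sum_mul, hAy s hs, Finset.sum_eq_single ξ (fun χ hχ hne1 => by
        rw [hOrest χ hχ hne1 s hs, zero_mul]) (fun h => absurd hξ h),
      ← charDegree_eq ξ, hfixO ξ hξ, map_natCast, trivIrr_apply, trivIrr_apply, map_one, ← hH] at h
    push_cast at h
    refine mul_left_cancel₀ hpC ?_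
    linear_combination h
  have hH1 : H = 1 := by
    have h1 : (H : ℝ) ^ 2 * T ξ = ∑ s ∈ E, (1 : ℝ) := by
      rw [Finset.mul_sum]
      refine Finset.sum_congr rfl fun s hs => ?_
      have h2 := congrArg Complex.normSq (hξy s (Finset.mem_erase.1 hs).1)
      rw [map_mul, Complex.normSq_natCast, map_one] at h2
      rw [pow_two]
      exact h2
    rw [hTξ, Finset.sum_const, nsmul_eq_mul, mul_one, hEcard, Nat.cast_sub (by omega), Nat.cast_one] at h1
    have h3 : (H : ℝ) ^ 2 = ((1 : ℕ) : ℝ) ^ 2 := by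
      rw [Nat.cast_one, one_pow]
      exact mul_right_cancel₀ (by linarith : (D : ℝ) - 1 ≠ 0) (h1.trans (one_mul _).symm)
    exact_mod_cast (pow_left_inj₀ (Nat.cast_nonneg _) (Nat.cast_nonneg _) two_ne_zero).1 h3
  obtain ⟨s₁, hs₁⟩ : ∃ s : ZMod e, s ≠ 0 := by
    obtain ⟨s, hs⟩ : E.Nonempty := Finset.card_pos.1 (by omega)
    exact ⟨s, (Finset.mem_erase.1 hs).1⟩
  set y := cpow t s₁ with hy
  have hξy1 : (ξ : G → ℂ) y = 1 := by
    have h := hξy s₁ hs₁
    rwa [hH1, Nat.cast_one, one_mul] at h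
  have hξdeg : charDegree (ξ : G → ℂ) = p := by rw [hfixO ξ hξ, ← hH, hH1, mul_one]
  have hξz : (ξ : G → ℂ) z = -1 := by
    have h := sum_irr_mul_conj z y
    rw [if_neg fun h => hDodd (by rw [← hz, BrauerPrime.orderOf_eq_of_isConj h]; exact hydvd s₁)] at h
    rw [hsplit _ (fun χ hχ => by rw [hvB χ hχ s₁ hs₁, map_zero, mul_zero])
        (fun χ hχ => by rw [hvY χ hχ s₁ hs₁, map_zero, mul_zero]),
      Finset.sum_eq_zero (s := A') (fun χ hχ => by rw [hzA χ hχ, zero_mul]),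
      Finset.sum_eq_single ξ (fun χ hχ hne1 => by
        rw [hOrest χ hχ hne1 s₁ hs₁, map_zero, mul_zero]) (fun h => absurd hξ h),
      hξy1, map_one, trivIrr_apply, trivIrr_apply, map_one, mul_one, mul_one, add_zero] at h
    linear_combination h
  -- the count
  have hR : ∑ χ : IrrCharacter G, (χ : G → ℂ) z * conj ((χ : G → ℂ) z) *
      (χ : G → ℂ) y / (χ : G → ℂ) 1 = 1 + 1 / (p : ℂ) := by
    rw [hsplit _ (fun χ hχ => by rw [hvB χ hχ s₁ hs₁, mul_zero, zero_div])
        (fun χ hχ => by rw [hvY χ hχ s₁ hs₁, mul_zero, zero_div]),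
      Finset.sum_eq_zero (s := A') (fun χ hχ => by rw [hzA χ hχ, zero_mul, zero_mul, zero_div]),
      Finset.sum_eq_single ξ (fun χ hχ hne1 => by
        rw [hOrest χ hχ hne1 s₁ hs₁, mul_zero, zero_div]) (fun h => absurd hξ h),
      hξy1, hξz, ← charDegree_eq ξ, hξdeg]
    simp [trivIrr_apply]
  have hcount := card_pairs_mul z z y hR
  rw [← hIdef] at hcount
  set N := Nat.card {a : G // IsConj z a ∧ IsConj z (y * a)} with hN
  have hcount' : N * Nat.card G * p = I * I * (p + 1) := by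
    have h : ((N * Nat.card G * p : ℕ) : ℂ) = ((I * I * (p + 1) : ℕ) : ℂ) := by
      push_cast
      rw [hcount]
      field_simp
    exact Nat.cast_injective h
  have hb : 2 ^ b ≤ p + 1 := by
    refine Nat.le_of_dvd (Nat.succ_pos _) ?_
    have h1 : 2 ^ b ∣ I * I * (p + 1) :=
      hcount' ▸ dvd_mul_of_dvd_left (dvd_mul_of_dvd_right (hcardG ▸ dvd_mul_of_dvd_left (dvd_mul_left _ _) _) _) _
    have hcop := (Nat.prime_two.coprime_iff_not_dvd.2 hzodd).pow_left b
    exact (hcop.mul_right hcop).dvd_of_dvd_mul_left h1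
  have hnp : Nat.card (Sylow p G) = 2 ^ b := by
    have h := C.card_eq'
    rw [hgD, ← hDe, mul_comm] at h
    exact Nat.eq_of_mul_eq_mul_right (by omega) h
  refine ⟨m₀, by omega, C.finish ?_⟩
  have hne1 : Nat.card (Sylow p G) ≠ 1 := by
    rw [hnp]
    intro h
    rw [hcardG, h, mul_one] at hG2
    rcases (Nat.prime_two.dvd_mul).1 hG2 with h | h
    · have := (Nat.prime_dvd_prime_iff_eq Nat.prime_two hp.out).1 h
      omega
    · exact hDodd h
  obtain ⟨k, hk⟩ := (Nat.modEq_iff_dvd' (Nat.card_pos (α := Sylow p G))).1 (card_sylow_modEq_one p G).symm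
  rcases k with _ | _ | k
  · rw [mul_zero] at hk
    have := Nat.card_pos (α := Sylow p G)
    omega
  · rw [zero_add, mul_one] at hk
    omega
  · have : p * 2 ≤ p * (k + 1 + 1) := Nat.mul_le_mul_left p (by omega)
    omega

end Ctx

end Cfsg.Agent.Lib.BrauerTuan
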