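import Cfsg.Agent.Lib.BrauerTuan.Setup
import Cfsg.Agent.Lib.Blocks.IndexThree
import Cfsg.Agent.Lib.SylowCounting.InvolutionTrace
import Cfsg.Agent.Lib.CharMisc.CenterSylowDefect
import Cfsg.Agent.Lib.NormalDefect.Pairs

/-!
# Counting pairs of class elements, involutions
-/

set_option autoImplicit false
set_option linter.unusedSectionVars false
set_option linter.style.haveILetI false
set_option maxHeartbeats 1000000

namespace Cfsg.Agent.Lib.BrauerTuan

open Cfsg Cfsg.Agent.Lib.Characters Cfsg.Agent.Lib.Blocks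
open scoped ComplexConjugate

universe u

variable {G : Type u} [Group G] [Fintype G]

/-- The number of elements `a` of one class with `g * a` in another one. -/
theorem card_pairs_elem [Fintype (IrrCharacter G)] (x y g : G) :
    (Nat.card {a : G // IsConj x a ∧ IsConj y (g * a)} : ℂ) =
      ((Subgroup.centralizer ({x} : Set G)).index : ℂ) *
        ((Subgroup.centralizer ({y} : Set G)).index : ℂ) / (Nat.card G : ℂ) *
      ∑ χ : IrrCharacter G, (χ : G → ℂ) x * conj ((χ : G → ℂ) y) *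
        (χ : G → ℂ) g / (χ : G → ℂ) 1 := by
  classical
  have h1 : (Nat.card {a : G // IsConj x a ∧ IsConj y (g * a)} : ℂ) =
      ∑ z : G, classIndicator x z * classIndicator y (g * z) := by
    rw [Nat.card_eq_fintype_card, Fintype.card_subtype, ← Finset.sum_boole]
    refine Finset.sum_congr rfl fun r _ => ?_
    by_cases ha : IsConj x r <;> by_cases hb : IsConj y (g * r) <;>
      simp only [classIndicator, ha, hb, and_true, and_false, if_true, if_false, mul_one, mul_zero]
  rw [h1]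
  have hy : ∀ w : G, classIndicator y w = ∑ χ : IrrCharacter G,
      (Nat.card {x : G // IsConj y x} : ℂ) / (Nat.card G : ℂ) *
        (conj ((χ : G → ℂ) y) * (χ : G → ℂ) w) := fun w => by
    have hreal : conj (classIndicator y w) = classIndicator y w := by
      unfold classIndicator; split_ifs <;> simp
    rw [← hreal, classIndicator_eq_sum, map_sum]
    refine Finset.sum_congr rfl fun χ _ => ?_
    simp only [map_mul, map_div₀, map_natCast, Complex.conj_conj]
  simp only [hy, Finset.mul_sum]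
  rw [Finset.sum_comm]
  refine Finset.sum_congr rfl fun χ _ => ?_
  rw [show ∑ z : G, classIndicator x z *
      ((Nat.card {x : G // IsConj y x} : ℂ) / (Nat.card G : ℂ) *
        (conj ((χ : G → ℂ) y) * (χ : G → ℂ) (g * z))) =
      (Nat.card {x : G // IsConj y x} : ℂ) / (Nat.card G : ℂ) * conj ((χ : G → ℂ) y) *
        ((Nat.card {z : G // IsConj x z} : ℂ) * (χ : G → ℂ) g * (χ : G → ℂ) x /
          (χ : G → ℂ) 1) by
    rw [← IsIrrCharacter.sum_class_translate χ.2 g x, Finset.mul_sum]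
    exact Finset.sum_congr rfl fun z _ => by ring]
  simp only [card_conj_eq_index]
  ring

/-- A count of pairs with product `g` as an identity of sums. -/
theorem card_pairs_mul [Fintype (IrrCharacter G)] (x y g : G) {R : ℂ}
    (hR : ∑ χ : IrrCharacter G, (χ : G → ℂ) x * conj ((χ : G → ℂ) y) *
      (χ : G → ℂ) g / (χ : G → ℂ) 1 = R) :
    (Nat.card {a : G // IsConj x a ∧ IsConj y (g * a)} : ℂ) * (Nat.card G : ℂ) =
      ((Subgroup.centralizer ({x} : Set G)).index : ℂ) *
        ((Subgroup.centralizer ({y} : Set G)).index : ℂ) * R := by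
  have h := natCard_ne_zero_complex (G := G)
  rw [card_pairs_elem, hR]
  field_simp

variable {p : ℕ} [hp : Fact p.Prime]

/-- If some pair of conjugates of an involution has product `g` of odd prime order `p`, then at
least `p` of them have. -/
theorem le_card_inverting (hp2 : p ≠ 2) {z g : G} (hz : z * z = 1) (hg : orderOf g = p)
    (hne : Nat.card {a : G // IsConj z a ∧ IsConj z (g * a)} ≠ 0) :
    p ≤ Nat.card {a : G // IsConj z a ∧ IsConj z (g * a)} := by
  obtain ⟨⟨a, ha, hga⟩⟩ := (Nat.card_ne_zero.1 hne).1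
  have hsq : ∀ w : G, IsConj z w → w * w = 1 := by
    intro w hw
    obtain ⟨c, rfl⟩ := isConj_iff.1 hw
    rw [show c * z * c⁻¹ * (c * z * c⁻¹) = c * (z * z) * c⁻¹ by group, hz, mul_one, mul_inv_cancel]
  have hinv : a * g * a⁻¹ = g⁻¹ := by
    rw [inv_eq_of_mul_eq_one_right (hsq a ha), eq_inv_iff_mul_eq_one]
    calc a * g * a * g = a * ((g * a) * (g * a)) * a⁻¹ := by group
      _ = 1 := by rw [hsq _ hga, mul_one, mul_inv_cancel]
  let f : ZMod p → {a : G // IsConj z a ∧ IsConj z (g * a)} := fun j =>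
    ⟨upow g j * a * (upow g j)⁻¹, ha.trans (isConj_iff.2 ⟨_, rfl⟩), by
      refine hga.trans (isConj_iff.2 ⟨upow g j, ?_⟩)
      have hc : Commute (upow g j) g := Commute.pow_self g j.val
      rw [← mul_assoc (upow g j), hc.eq]
      group⟩
  have hf : Function.Injective f := by
    intro i j h
    have h' : upow g i * a * (upow g i)⁻¹ = upow g j * a * (upow g j)⁻¹ := congrArg Subtype.val h
    have hgp : g ^ p = 1 := hg ▸ pow_orderOf_eq_one g
    have hneg : ∀ j : ZMod p, (upow g j)⁻¹ = upow g (-j) := fun j =>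
      inv_eq_of_mul_eq_one_right (by rw [← upow_add hgp, add_neg_cancel, upow_zero])
    have hconj : ∀ j : ZMod p, a * upow g j * a⁻¹ = upow g (-j) := by
      intro j
      rw [upow, ← conj_pow, hinv, inv_pow, ← hneg]
      rfl
    have hshift : ∀ j : ZMod p, upow g j * a * (upow g j)⁻¹ = upow g (2 * j) * a := by
      intro j
      rw [hneg, two_mul, upow_add hgp, mul_assoc (upow g j), mul_assoc (upow g j)]
      congr 1
      have := hconj (-j)
      rw [neg_neg, mul_inv_eq_iff_eq_mul] at this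
      exact this
    rw [hshift, hshift, mul_left_inj] at h'
    have h2 : (2 : ZMod p) ≠ 0 := by
      rw [show (2 : ZMod p) = ((2 : ℕ) : ZMod p) by norm_num, Ne, ZMod.natCast_eq_zero_iff]
      exact fun h => hp2 ((Nat.prime_dvd_prime_iff_eq hp.out Nat.prime_two).1 h)
    exact mul_left_cancel₀ h2 (upow_injective hg h')
  have := Nat.card_le_card_of_injective f hf
  rwa [Nat.card_zmod] at this

/-- An involution in the centre of a Sylow 2-subgroup. -/
theorem exists_involution_odd_index (h : 2 ∣ Nat.card G) :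
    ∃ z : G, orderOf z = 2 ∧ ¬ 2 ∣ (Subgroup.centralizer ({z} : Set G)).index := by
  haveI : Fact (Nat.Prime 2) := ⟨Nat.prime_two⟩
  obtain ⟨T⟩ : Nonempty (Sylow 2 G) := inferInstance
  haveI : Nontrivial (T : Subgroup G) := by
    rw [← Finite.one_lt_card_iff_nontrivial, T.card_eq_multiplicity]
    exact Nat.one_lt_two_pow (Nat.prime_two.factorization_pos_of_dvd Nat.card_pos.ne' h).ne'
  haveI := T.isPGroup'.center_nontrivial
  obtain ⟨n, hn⟩ := IsPGroup.iff_card.1
    (T.isPGroup'.to_subgroup (Subgroup.center (T : Subgroup G)))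
  have hn0 : n ≠ 0 := by
    rintro rfl
    have h1 := Finite.one_lt_card_iff_nontrivial.2
      (inferInstance : Nontrivial (Subgroup.center (T : Subgroup G)))
    rw [hn, pow_zero] at h1
    exact lt_irrefl _ h1
  obtain ⟨w, hw⟩ := exists_prime_orderOf_dvd_card' (G := Subgroup.center (T : Subgroup G)) 2
    (hn ▸ dvd_pow_self 2 hn0)
  refine ⟨((w : (T : Subgroup G)) : G), by rw [Subgroup.orderOf_coe, Subgroup.orderOf_coe]; exact hw,
    fun h2 => T.not_dvd_index (h2.trans (Subgroup.index_dvd_of_le fun y hy => ?_))⟩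
  exact Subgroup.mem_centralizer_singleton_iff.2
    (congrArg Subtype.val (Subgroup.mem_center_iff.1 w.2 ⟨y, hy⟩))

/-- In a perfect group the value at an involution is congruent to the degree modulo four. -/
theorem involution_value_mod_four (hperf : commutator G = ⊤) (χ : IrrCharacter G) {z : G}
    (hz : z * z = 1) :
    ∃ v : ℤ, (χ : G → ℂ) z = v ∧ (4 : ℤ) ∣ (charDegree (χ : G → ℂ) : ℤ) - v := by
  obtain ⟨n, ρ, -, hρ⟩ := χ.2
  obtain ⟨m, -, htr, hdet, -, -⟩ := SylowCounting.exists_minus_dim (A := ρ z)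
    (by rw [← map_mul, hz, map_one])
  let f : G →* ℂ :=
    { toFun := fun g => LinearMap.det (ρ g)
      map_one' := by rw [_root_.map_one, _root_.map_one]
      map_mul' := fun a b => by rw [map_mul, map_mul] }
  have hk : commutator G ≤ f.toHomUnits.ker := Abelianization.commutator_subset_ker _
  rw [hperf] at hk
  have h1 := congrArg Units.val (MonoidHom.mem_ker.1 (hk (Subgroup.mem_top z)))
  rw [MonoidHom.coe_toHomUnits, Units.val_one] at h1
  change LinearMap.det (ρ z) = 1 at h1
  rw [hdet, neg_one_pow_eq_one_iff_even (by norm_num : (-1 : ℂ) ≠ 1)] at h1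
  obtain ⟨k, rfl⟩ := h1
  have hd : charDegree (χ : G → ℂ) = n := by
    refine Nat.cast_injective (R := ℂ) ?_
    rw [charDegree_eq, ← hρ, ρ.char_one, Module.finrank_fin_fun]
  refine ⟨(n : ℤ) - 2 * ((k + k : ℕ) : ℤ), ?_, ?_⟩
  · rw [← hρ]
    show LinearMap.trace ℂ _ (ρ z) = _
    rw [htr, Module.finrank_fin_fun]
    push_cast
    ring
  · rw [hd]
    exact ⟨(k : ℤ), by push_cast; ring⟩

namespace Ctx

variable {q b g : ℕ} {P : Sylow p G} {u t : G} {r e : ℕ} {X Y : Finset (IrrCharacter G)}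
  {εX : IrrCharacter G → ℤ} {ε : ℤ} {D : ℕ}

theorem center_eq_bot (C : Ctx p q b g P u t r e X Y εX ε D) : Subgroup.center G = ⊥ := by
  haveI := C.simple
  refine (IsSimpleGroup.eq_bot_or_eq_top_of_normal (Subgroup.center G) inferInstance).resolve_right
    fun h => ?_
  have hu : u ∈ Subgroup.centralizer ((P : Subgroup G) : Set G) := by
    rw [C.frame.cent]; exact C.frame.mem
  have h1 : commutator G = ⊥ := by
    rw [commutator_def, Subgroup.commutator_eq_bot_iff_le_centralizer]
    intro x _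
    refine Subgroup.mem_centralizer_iff.2 fun y _ => ?_
    exact (Subgroup.mem_center_iff.1 (h ▸ Subgroup.mem_top x) y)
  rw [C.perfect] at h1
  exact C.frame.ne_one (Subgroup.mem_bot.1 (h1 ▸ Subgroup.mem_top u))

/-- The degree divides the class size times the value at an involution. -/
theorem dvd_index_mul {z : G} (χ : IrrCharacter G) {c : ℤ} (hc : (χ : G → ℂ) z = c) :
    (charDegree (χ : G → ℂ) : ℤ) ∣
      ((Subgroup.centralizer ({z} : Set G)).index : ℤ) * c :=
  BrauerPrime.degree_dvd_of_sum χ {()} (fun _ => z) _ (fun _ _ => rfl) (by simpa using hc)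

/-- A character of two-power degree vanishes at a 2-central involution. -/
theorem apply_eq_zero (C : Ctx p q b g P u t r e X Y εX ε D) {z : G} (hz : orderOf z = 2)
    (hodd : ¬ 2 ∣ (Subgroup.centralizer ({z} : Set G)).index) {χ : IrrCharacter G}
    (hne : χ ≠ trivIrr G) {m : ℕ} (hm : charDegree (χ : G → ℂ) = 2 ^ m) : (χ : G → ℂ) z = 0 := by
  haveI := C.simple
  have hzz : z * z = 1 := by rw [← pow_two, ← hz]; exact pow_orderOf_eq_one z
  obtain ⟨c, hc⟩ := exists_int_apply_involution hzz χ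
  have h1 := dvd_index_mul χ hc.symm
  rw [hm] at h1
  have hcop : IsCoprime ((2 ^ m : ℕ) : ℤ) ((Subgroup.centralizer ({z} : Set G)).index : ℤ) := by
    rw [Int.isCoprime_iff_gcd_eq_one, Int.gcd_natCast_natCast]
    exact (Nat.prime_two.coprime_iff_not_dvd.2 hodd).pow_left m
  have h2 := hcop.dvd_of_dvd_mul_left h1
  have h3 : ‖(χ : G → ℂ) z‖ ≤ ((2 ^ m : ℕ) : ℝ) := by
    have := IsCharacter.norm_le_re (irr_isCharacter χ) z
    rwa [← charDegree_eq χ, hm, Complex.natCast_re] at this
  by_contra h0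
  rw [← hc] at h0 h3
  have hc0 : c ≠ 0 := fun h => h0 (by rw [h, Int.cast_zero])
  have h4 : ((2 ^ m : ℕ) : ℤ) ≤ |c| :=
    Int.le_of_dvd (abs_pos.2 hc0) ((dvd_abs _ _).2 h2)
  rw [Complex.norm_intCast] at h3
  have h5 : |c| ≤ ((2 ^ m : ℕ) : ℤ) := by exact_mod_cast h3
  have hn : ‖(χ : G → ℂ) z‖ = ‖(χ : G → ℂ) 1‖ := by
    rw [← hc, ← charDegree_eq χ, hm, Complex.norm_intCast, Complex.norm_natCast]
    exact_mod_cast le_antisymm h5 h4
  have h6 := CharMisc.mem_center_of_norm_eq χ.2 (fun x hx => BrauerPrime.faithful χ hne x hx) hn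
  rw [C.center_eq_bot, Subgroup.mem_bot] at h6
  rw [h6, orderOf_one] at hz
  exact absurd hz (by norm_num)

/-- The square of an exceptional character and the product of two of them. -/
theorem split (C : Ctx p q b g P u t r e X Y εX ε D) {θ θ' : IrrCharacter G} (hθ : θ ∈ Y)
    (hθ' : θ' ∈ Y) (hne : θ ≠ θ') :
    (∑ χ ∈ X.filter (fun χ => εX χ = 1), charDegree (χ : G → ℂ) ≤ D * D) ∧
    (∑ χ ∈ X.filter (fun χ => ¬ εX χ = 1), charDegree (χ : G → ℂ) ≤ D * D) ∧
    (∑ χ ∈ X.filter (fun χ => εX χ = 1), charDegree (χ : G → ℂ) = D * D →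
      ∀ x : G, (θ : G → ℂ) x * conj ((θ : G → ℂ) x) =
        ∑ χ ∈ X.filter (fun χ => εX χ = 1), (χ : G → ℂ) x) := by
  classical
  haveI := Fintype.ofFinite (IrrCharacter G)
  let A : G → ℂ := fun g => (θ : G → ℂ) g * conj ((θ : G → ℂ) g)
  let B : G → ℂ := fun g => (θ : G → ℂ) g * conj ((θ' : G → ℂ) g)
  have hA : IsCharacter G A := IsCharacter.mul (irr_isCharacter θ) (IsCharacter.conjugate (irr_isCharacter θ))
  have hB : IsCharacter G B := IsCharacter.mul (irr_isCharacter θ) (IsCharacter.conjugate (irr_isCharacter θ'))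
  obtain ⟨a, ha, ha'⟩ := IsCharacter.exists_nat_decomp hA
  obtain ⟨c, hc, hc'⟩ := IsCharacter.exists_nat_decomp hB
  have hD : ∀ x : G, ¬ p ∣ orderOf x → A x = B x := by
    intro x hx
    show _ * _ = _ * _
    rw [C.Y_reg θ hθ θ' hθ' x hx]
  have hsing : ∀ χ ∈ X, ∀ x : G, p ∣ orderOf x → (χ : G → ℂ) x = (εX χ : ℂ) := by
    intro χ hχ x hx
    obtain ⟨i, hi, hxi⟩ := C.frame.exists_conj_upow hx
    rw [IsClassFunction.eq_of_isConj (irr_isClassFunction χ) hxi, C.X_val χ hχ i hi]
  have hab : ∀ ψ ∈ X, ((a ψ : ℤ) - c ψ) = εX ψ := by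
    intro ψ hψ
    have h1 : classInner (A - B) (ψ : G → ℂ) = (εX ψ : ℂ) * classInner (A - B) (fun _ => 1) := by
      simp only [classInner, Finset.mul_sum]
      refine Finset.sum_congr rfl fun x _ => ?_
      by_cases hx : p ∣ orderOf x
      · rw [hsing ψ hψ x hx, map_intCast, map_one]; ring
      · rw [Pi.sub_apply, hD x hx, sub_self]; ring
    have h2 : classInner (A - B) (fun _ : G => (1 : ℂ)) = 1 := by
      rw [classInner_sub_left, show classInner A (fun _ => (1 : ℂ)) = classInner (θ : G → ℂ) (θ : G → ℂ) by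
          simp [classInner, A],
        show classInner B (fun _ => (1 : ℂ)) = classInner (θ : G → ℂ) (θ' : G → ℂ) by
          simp [classInner, B],
        IsIrrCharacter.classInner_self θ.2,
        IsIrrCharacter.classInner_ne θ.2 θ'.2 (fun h => hne (Subtype.ext h)), sub_zero]
    rw [h2, mul_one, classInner_sub_left, ha' ψ, hc' ψ] at h1
    have h3 : (((a ψ : ℤ) - c ψ : ℤ) : ℂ) = ((εX ψ : ℤ) : ℂ) := by push_cast; exact h1
    exact_mod_cast h3
  have hdeg : ∀ (F : G → ℂ) (f : IrrCharacter G → ℕ), F = ∑ φ, (f φ : ℂ) • (φ : G → ℂ) →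
      F 1 = ((D * D : ℕ) : ℂ) → D * D = ∑ φ, f φ * charDegree (φ : G → ℂ) := by
    intro F f hF hF1
    refine Nat.cast_injective (R := ℂ) ?_
    rw [← hF1, hF, Finset.sum_apply, Nat.cast_sum]
    exact Finset.sum_congr rfl fun φ _ => by rw [Pi.smul_apply, smul_eq_mul, Nat.cast_mul, charDegree_eq]
  have hA1 : A 1 = ((D * D : ℕ) : ℂ) := by
    show _ * conj _ = _
    rw [← charDegree_eq θ, C.Y_deg θ hθ, map_natCast, Nat.cast_mul]
  have hB1 : B 1 = ((D * D : ℕ) : ℂ) := by
    show _ * conj _ = _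
    rw [← charDegree_eq θ, ← charDegree_eq θ', C.Y_deg θ hθ, C.Y_deg θ' hθ', map_natCast, Nat.cast_mul]
  have hdA := hdeg A a ha hA1
  have hdB := hdeg B c hc hB1
  have hpos : ∀ ψ ∈ X.filter (fun χ => εX χ = 1), 1 ≤ a ψ := by
    intro ψ hψ
    obtain ⟨h1, h2⟩ := Finset.mem_filter.1 hψ
    have := hab ψ h1
    omega
  have hneg : ∀ ψ ∈ X.filter (fun χ => ¬ εX χ = 1), 1 ≤ c ψ := by
    intro ψ hψ
    obtain ⟨h1, h2⟩ := Finset.mem_filter.1 hψ
    have := hab ψ h1
    have := (C.eX ψ h1).resolve_left h2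
    omega
  refine ⟨?_, ?_, fun heq x => ?_⟩
  · rw [hdA]
    exact (Finset.sum_le_sum fun ψ hψ => Nat.le_mul_of_pos_left _ (hpos ψ hψ)).trans
      (Finset.sum_le_sum_of_subset (Finset.subset_univ _))
  · rw [hdB]
    exact (Finset.sum_le_sum fun ψ hψ => Nat.le_mul_of_pos_left _ (hneg ψ hψ)).trans
      (Finset.sum_le_sum_of_subset (Finset.subset_univ _))
  · have hle : ∀ φ ∈ (Finset.univ : Finset (IrrCharacter G)),
        (if φ ∈ X.filter (fun χ => εX χ = 1) then 1 else 0) * charDegree (φ : G → ℂ) ≤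
          a φ * charDegree (φ : G → ℂ) := by
      intro φ _
      refine Nat.mul_le_mul_right _ ?_
      split_ifs with h
      · exact hpos φ h
      · exact Nat.zero_le _
    have htot : ∑ φ, (if φ ∈ X.filter (fun χ => εX χ = 1) then 1 else 0) * charDegree (φ : G → ℂ) =
        ∑ φ, a φ * charDegree (φ : G → ℂ) := by
      rw [← hdA, ← heq]
      simp only [ite_mul, one_mul, zero_mul, Finset.sum_ite_mem, Finset.univ_inter]
    have hz : ∀ φ, a φ = if φ ∈ X.filter (fun χ => εX χ = 1) then 1 else 0 := fun φ =>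
      Nat.eq_of_mul_eq_mul_right (charDegree_pos φ)
        ((Finset.sum_eq_sum_iff_of_le hle).1 htot φ (Finset.mem_univ _)).symm
    show A x = _
    rw [ha, Finset.sum_apply]
    simp only [Pi.smul_apply, smul_eq_mul, hz, Nat.cast_ite, Nat.cast_one, Nat.cast_zero, ite_mul,
      one_mul, zero_mul, Finset.sum_ite_mem, Finset.univ_inter]

/-- The relation at the identity. -/
theorem relation_one (C : Ctx p q b g P u t r e X Y εX ε D) :
    ε * (D : ℤ) = ((∑ χ ∈ X.filter (fun χ => εX χ = 1), charDegree (χ : G → ℂ) : ℕ) : ℤ) -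
      ((∑ χ ∈ X.filter (fun χ => ¬ εX χ = 1), charDegree (χ : G → ℂ) : ℕ) : ℤ) := by
  classical
  obtain ⟨θ, hθ⟩ : Y.Nonempty := Finset.card_pos.1 (Nat.pos_of_ne_zero fun h => by
    have h1 := C.card_Y
    have h2 := C.five
    rw [h, zero_mul] at h1
    omega)
  have h := C.relation θ hθ 1 (by rw [orderOf_one, Nat.dvd_one]; exact hp.out.ne_one)
  rw [← charDegree_eq θ, C.Y_deg θ hθ] at h
  simp only [← charDegree_eq] at h
  have h' : ε * (D : ℤ) = ∑ χ ∈ X, εX χ * (charDegree (χ : G → ℂ) : ℤ) := by exact_mod_cast h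
  rw [h', ← Finset.sum_filter_add_sum_filter_not X (fun χ => εX χ = 1), Nat.cast_sum, Nat.cast_sum,
    sub_eq_add_neg, ← Finset.sum_neg_distrib]
  refine congrArg₂ (· + ·) (Finset.sum_congr rfl fun χ hχ => ?_) (Finset.sum_congr rfl fun χ hχ => ?_)
  · rw [(Finset.mem_filter.1 hχ).2, one_mul]
  · rw [(C.eX χ (Finset.mem_filter.1 hχ).1).resolve_left (Finset.mem_filter.1 hχ).2, neg_one_mul]

/-- The sum over characters in the count of pairs with product `upow u i`. -/
theorem sum_pairs (C : Ctx p q b g P u t r e X Y εX ε D) [Fintype (IrrCharacter G)] (x y : G)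
    (hx : ¬ p ∣ orderOf x) (hy : ¬ p ∣ orderOf y) {i : ZMod p} (hi : i ≠ 0) {θ : IrrCharacter G}
    (hθ : θ ∈ Y) :
    ∑ χ : IrrCharacter G, (χ : G → ℂ) x * conj ((χ : G → ℂ) y) * (χ : G → ℂ) (upow u i) /
        (χ : G → ℂ) 1 =
      ∑ χ ∈ X, (εX χ : ℂ) * ((χ : G → ℂ) x * conj ((χ : G → ℂ) y) / (χ : G → ℂ) 1) -
        (ε : ℂ) * ((θ : G → ℂ) x * conj ((θ : G → ℂ) y) / (D : ℂ)) := by
  classical
  rw [← Finset.sum_subset (Finset.subset_univ (X ∪ Y)) fun χ _ hχ => by
    rw [C.vanish χ hχ i hi, mul_zero, zero_div], Finset.sum_union C.disj, sub_eq_add_neg, ← neg_mul,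
    ← C.Y_sum i hi, Finset.sum_mul]
  refine congrArg₂ (· + ·) (Finset.sum_congr rfl fun χ hχ => ?_) (Finset.sum_congr rfl fun χ hχ => ?_)
  · rw [C.X_val χ hχ i hi]; ring
  · rw [C.Y_reg χ hχ θ hθ x hx, C.Y_reg χ hχ θ hθ y hy, ← charDegree_eq χ, C.Y_deg χ hχ]; ring

theorem card_eq' (C : Ctx p q b g P u t r e X Y εX ε D) :
    e * Nat.card (Sylow p G) = q ^ b * g := by
  have h := C.frame.card_eq
  rw [C.card_G, mul_assoc] at h
  exact Nat.eq_of_mul_eq_mul_left hp.out.pos h.symm

theorem finish (C : Ctx p q b g P u t r e X Y εX ε D) (hn : Nat.card (Sylow p G) = p + 1) :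
    BrauerPrime.IsBrauerGroup p G := by
  haveI := C.simple
  have hF : ¬ BrauerPrime.HasForm p 1 := fun h => by
    have := h.le
    have := C.five
    omega
  have h := (BrauerPrime.main C.perfect P C.frame.card_P (n := 1) (by rw [hn, one_mul, add_comm]) hF).2
  have hO : pPrimeCore p G = ⊥ := by
    refine (IsSimpleGroup.eq_bot_or_eq_top_of_normal (pPrimeCore p G) inferInstance).resolve_right
      fun htop => ?_
    have h1 := Cores.pPrimeCore_coprime p G
    rw [htop, Subgroup.card_top] at h1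
    have h2 : p ∣ Nat.card G := C.card_G ▸ dvd_mul_of_dvd_left (dvd_mul_right _ _) _
    exact hp.out.ne_one (Nat.dvd_one.1 (by
      have := Nat.dvd_gcd h2 (dvd_refl p)
      first
        | rwa [Nat.Coprime.gcd_eq_one h1] at this
        | rwa [Nat.Coprime.gcd_eq_one h1.symm] at this))
  exact h.congr ((QuotientGroup.quotientMulEquivOfEq hO).trans QuotientGroup.quotientBot)

end Ctx

end Cfsg.Agent.Lib.BrauerTuan
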