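import Cfsg.Agent.Lib.BrauerTuan.CaseMinus
import Cfsg.Agent.Lib.BrauerTuan.CasePlus
import Cfsg.Agent.Lib.Classical.LinearCard

/-!
# Simple groups of order `p q ^ b g` with `g < p - 1`, and of order `p r q ^ b`
-/

set_option autoImplicit false
set_option linter.unusedSectionVars false
set_option linter.style.haveILetI false

namespace Cfsg.Agent.Lib.BrauerTuan

open Cfsg Cfsg.Agent.Lib.Characters Cfsg.Agent.Lib.Blocks
open scoped commutatorElement

universe u

variable {G : Type u} [Group G] [Fintype G]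

theorem perfect_of_simple [IsSimpleGroup G] (hG : ¬ IsCyclic G) : commutator G = ⊤ := by
  refine (IsSimpleGroup.eq_bot_or_eq_top_of_normal (commutator G) inferInstance).resolve_left
    fun hb => hG ?_
  letI : CommGroup G := { (inferInstance : Group G) with
    mul_comm := fun a c => by
      have h : ⁅a, c⁆ ∈ commutator G :=
        Subgroup.commutator_mem_commutator (Subgroup.mem_top _) (Subgroup.mem_top _)
      rw [hb, Subgroup.mem_bot, commutatorElement_eq_one_iff_commute] at h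
      exact h }
  exact IsSimpleGroup.isCyclic

theorem outcome [IsSimpleGroup G] (hG : ¬ IsCyclic G) {p q b g : ℕ} (hp : p.Prime) (hq : q.Prime)
    (hpq : p ≠ q) (hcard : Nat.card G = p * q ^ b * g) (hg : g < p - 1) : Outcome p G := by
  haveI : Fact p.Prime := ⟨hp⟩
  have hg0 : g ≠ 0 := fun h => Nat.card_pos.ne' (hcard.trans (by rw [h, mul_zero]))
  obtain ⟨j, g', hqg', rfl⟩ := Nat.exists_eq_pow_mul_and_not_dvd hg0 q hq.ne_one
  have hg' : g' ≤ q ^ j * g' := Nat.le_mul_of_pos_left _ (pow_pos hq.pos j)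
  obtain ⟨P, v, t, r, e, X, Y, εX, ε, D, C⟩ := exists_ctx hG p q (b + j) g' hq hpq.symm
    (by rw [hcard, pow_add]; ring) hqg' (by omega)
  rcases C.eps with ⟨hε, hD⟩ | ⟨hε, hD⟩
  · obtain ⟨m, hm, h⟩ := C.case_plus hε hD
    exact Or.inl ⟨m, Or.inr hm, h⟩
  · exact C.case_minus hε hD

theorem outcome_psl [IsSimpleGroup G] {p : ℕ} (h : Outcome p G) :
    (∃ (m : ℕ) (F : Type) (_ : Field F) (_ : Fintype F), Fintype.card F = p ∧
      (p = 2 ^ m + 1 ∨ p = 2 ^ m - 1) ∧
      Nonempty (G ≃* Matrix.ProjectiveSpecialLinearGroup (Fin 2) F)) ∨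
    (∃ (m : ℕ) (F : Type) (_ : Field F) (_ : Fintype F), Fintype.card F = 2 ^ m ∧ p = 2 ^ m + 1 ∧
      3 < p ∧ Nonempty (G ≃* Matrix.ProjectiveSpecialLinearGroup (Fin 2) F)) := by
  rcases h with ⟨m, hm, ⟨F, i1, i2, hF, -, -, hφ⟩ | ⟨m', F, i1, i2, hF, hp, h5, -, -, hφ⟩⟩ | h
  · exact Or.inl ⟨m, F, i1, i2, hF, hm, hφ⟩
  · exact Or.inr ⟨m', F, i1, i2, hF, hp, by omega, hφ⟩
  · exact Or.inr h

/-- `2 ^ m + 1` is divisible by three for odd `m`. -/
theorem three_dvd_two_pow_add_one {m : ℕ} (hm : Odd m) : 3 ∣ 2 ^ m + 1 := by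
  have := hm.nat_add_dvd_pow_add_pow 2 1
  rwa [one_pow] at this

theorem three_dvd_two_pow_sub_one {m : ℕ} (hm : Even m) : 3 ∣ 2 ^ m - 1 := by
  obtain ⟨k, rfl⟩ := hm
  rw [← two_mul, pow_mul, show (2 : ℕ) ^ 2 = 4 by norm_num]
  have := Nat.sub_dvd_pow_sub_pow 4 1 k
  rwa [one_pow] at this

/-- The odd part of `r * q ^ b` for the three-prime orders. -/
theorem split_two {q r b k o : ℕ} (hq : q.Prime) (hr : r.Prime) (hqr : q ≠ r) (hk : 2 ≤ k)
    (ho : ¬ 2 ∣ o) (h : r * q ^ b = 2 ^ k * o) : q = 2 ∧ r = o := by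
  have hq2 : q = 2 := by
    by_contra hq2
    have hcop : Nat.Coprime (2 ^ k) (q ^ b) :=
      ((Nat.coprime_primes Nat.prime_two hq).2 (Ne.symm hq2)).pow k b
    have h1 := hcop.dvd_of_dvd_mul_right ⟨o, h⟩
    obtain ⟨i, hi, hi2⟩ := (Nat.dvd_prime_pow Nat.prime_two).1 (dvd_refl (2 ^ k))
    have h2 : 4 ∣ r := (pow_dvd_pow 2 hk).trans h1
    have h3 := (Nat.prime_dvd_prime_iff_eq Nat.prime_two hr).1 (dvd_trans (by norm_num) h2)
    rw [← h3] at h2
    norm_num at h2
  subst hq2
  refine ⟨rfl, Nat.dvd_antisymm ?_ ?_⟩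
  · exact (((Nat.coprime_primes hr Nat.prime_two).2 hqr.symm).pow_right k).dvd_of_dvd_mul_left
      (h ▸ dvd_mul_right r _)
  · exact ((Nat.prime_two.coprime_iff_not_dvd.2 ho).symm.pow_right b).dvd_of_dvd_mul_right
      (h ▸ dvd_mul_left o _)

theorem psl_five_or_seven [IsSimpleGroup G] (hG : ¬ IsCyclic G) {p q r b : ℕ} (hp : p.Prime)
    (hq : q.Prime) (hr : r.Prime) (hpq : p ≠ q) (hqr : q ≠ r) (hlt : r < p)
    (hcard : Nat.card G = p * r * q ^ b) :
    (∃ (F : Type) (_ : Field F) (_ : Fintype F), Fintype.card F = 5 ∧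
        Nonempty (G ≃* Matrix.ProjectiveSpecialLinearGroup (Fin 2) F)) ∨
    (∃ (F : Type) (_ : Field F) (_ : Fintype F), Fintype.card F = 7 ∧
        Nonempty (G ≃* Matrix.ProjectiveSpecialLinearGroup (Fin 2) F)) := by
  classical
  haveI : Fact p.Prime := ⟨hp⟩
  have hperf := perfect_of_simple hG
  by_cases hrp : r < p - 1
  swap
  · exfalso
    have hr2 := hr.two_le
    have hp3 : p = 3 ∧ r = 2 := by
      rcases hp.eq_two_or_odd with h | h
      · omega
      · rcases hr.eq_two_or_odd with h' | h'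
        · exact ⟨by omega, h'⟩
        · omega
    obtain ⟨rfl, rfl⟩ := hp3
    haveI : Fact (Nat.Prime 2) := ⟨Nat.prime_two⟩
    obtain ⟨T⟩ : Nonempty (Sylow 2 G) := inferInstance
    have hT : Nat.card T = 2 := by
      rw [Sylow.card_eq_multiplicity, hcard, Nat.factorization_mul (by norm_num) (pow_ne_zero _ hq.ne_zero),
        Nat.factorization_mul (by norm_num) (by norm_num), Finsupp.add_apply, Finsupp.add_apply,
        Nat.factorization_eq_zero_of_not_dvd (by norm_num : ¬ 2 ∣ 3), Nat.prime_two.factorization_self,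
        Nat.factorization_eq_zero_of_not_dvd (fun h =>
          hqr ((Nat.prime_dvd_prime_iff_eq Nat.prime_two hq).1 (Nat.prime_two.dvd_of_dvd_pow h)).symm)]
      rfl
    refine BrauerPrime.not_normalizer_le_centralizer hperf T hT fun g hg => ?_
    refine Subgroup.mem_centralizer_iff.2 fun x hx => ?_
    have hx' : g * x * g⁻¹ ∈ (T : Subgroup G) := ((Subgroup.mem_normalizer_iff.1 hg) x).1 hx
    by_cases hx1 : x = 1
    · rw [hx1, one_mul, mul_one]
    · obtain ⟨w, hw⟩ := Nat.card_eq_two_iff' (1 : (T : Subgroup G)) |>.1 hT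
      have h1 := hw.2 ⟨x, hx⟩ (fun h => hx1 (congrArg Subtype.val h))
      have h2 := hw.2 ⟨g * x * g⁻¹, hx'⟩
        (fun h => hx1 (conj_eq_one_iff.1 (congrArg Subtype.val h)))
      exact (mul_inv_eq_iff_eq_mul.1 (congrArg Subtype.val (h2.trans h1.symm))).symm
  have hcard' : Nat.card G = p * q ^ b * r := by rw [hcard]; ring
  have hp5 : ∀ {m : ℕ}, p = 2 ^ m + 1 → 3 < p → Even m := by
    intro m hm h3
    by_contra h
    have := (Nat.prime_dvd_prime_iff_eq Nat.prime_three hp).1
      (hm ▸ three_dvd_two_pow_add_one (Nat.not_even_iff_odd.1 h))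
    omega
  rcases outcome hG hp hq hpq hcard' hrp with ⟨m, hm, hb | hb⟩ | hb
  · obtain ⟨F, i1, i2, hF, h5, hord, hφ⟩ := hb
    rw [hcard] at hord
    have h1 : 2 * r * q ^ b = p ^ 2 - 1 := Nat.eq_of_mul_eq_mul_left hp.pos (by linarith)
    rcases m with _ | _ | m
    · omega
    · omega
    have hev : 2 ∣ 2 ^ (m + 1) := dvd_pow_self 2 (by omega)
    have h4 : 4 ≤ 2 ^ (m + 1 + 1) := by
      calc 4 = 2 ^ 2 := by norm_num
        _ ≤ _ := Nat.pow_le_pow_right (by norm_num) (by omega)
    rcases hm with hm | hm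
    · have h2 : r * q ^ b = 2 ^ (m + 2) * (2 ^ (m + 1) + 1) := by
        refine Nat.eq_of_mul_eq_mul_left (show 0 < 2 by norm_num) ?_
        rw [← mul_assoc, h1, hm]
        refine Nat.sub_eq_of_eq_add ?_
        ring
      obtain ⟨-, hr'⟩ := split_two hq hr hqr (by omega) (by omega) h2
      obtain ⟨i, hi⟩ := hp5 hm (by omega)
      have h3 := (Nat.prime_dvd_prime_iff_eq Nat.prime_three hr).1
        (hr' ▸ three_dvd_two_pow_add_one ⟨i - 1, by omega⟩)
      refine Or.inl ⟨F, i1, i2, ?_, hφ⟩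
      rw [pow_succ] at hm
      omega
    · have h2 : r * q ^ b = 2 ^ (m + 2) * (2 ^ (m + 1) - 1) := by
        refine Nat.eq_of_mul_eq_mul_left (show 0 < 2 by norm_num) ?_
        rw [← mul_assoc, h1, hm]
        obtain ⟨w, hw⟩ : ∃ w, 2 ^ (m + 1) = w + 1 := ⟨2 ^ (m + 1) - 1, by have := Nat.one_le_two_pow (n := m + 1); omega⟩
        rw [pow_succ 2 (m + 1), hw, show (w + 1) * 2 - 1 = 2 * w + 1 by omega, Nat.add_sub_cancel]
        refine Nat.sub_eq_of_eq_add ?_
        ring
      obtain ⟨-, hr'⟩ := split_two hq hr hqr (by omega) (by omega) h2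
      refine Or.inr ⟨F, i1, i2, ?_, hφ⟩
      have h3 : r = 3 := by
        rcases Nat.even_or_odd (m + 1) with h | h
        · exact ((Nat.prime_dvd_prime_iff_eq Nat.prime_three hr).1 (hr' ▸ three_dvd_two_pow_sub_one h)).symm
        · have := (Nat.prime_dvd_prime_iff_eq Nat.prime_three hp).1
            (hm ▸ three_dvd_two_pow_sub_one (m := m + 1 + 1) h.add_one)
          omega
      rw [pow_succ] at hm
      omega
  all_goals
    obtain ⟨m', F, i1, i2, hF, hp', h35, hrest⟩ := hb
    have h3 : 3 < p := by omega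
    have hψ : Nonempty (G ≃* Matrix.ProjectiveSpecialLinearGroup (Fin 2) F) := by
      first
        | exact hrest.2.2
        | exact hrest
    obtain ⟨φ⟩ := hψ
    have hc : Nat.card G = 2 ^ m' * ((2 ^ m') ^ 2 - 1) := by
      have h := Classical.card_PSL2_mul (F := F)
      rw [← Nat.card_congr φ.toEquiv, hF] at h
      have h2 : Nat.gcd 2 (2 ^ m' - 1) = 1 := by
        refine Nat.prime_two.coprime_iff_not_dvd.2 ?_
        rcases m' with _ | m'
        · omega
        · rw [pow_succ]; have := Nat.one_le_two_pow (n := m'); omega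
      rwa [h2, one_mul] at h
    rcases m' with _ | _ | k
    · omega
    · omega
    obtain ⟨w, hw⟩ : ∃ w, 2 ^ (k + 2) = w + 1 :=
      ⟨2 ^ (k + 2) - 1, by have := Nat.one_le_two_pow (n := k + 2); omega⟩
    have h2 : r * q ^ b = 2 ^ (k + 2) * w := by
      refine Nat.eq_of_mul_eq_mul_left hp.pos ?_
      rw [← mul_assoc, ← hcard, hc, hp', hw, show (w + 1) ^ 2 - 1 = (w + 1 + 1) * w from
        Nat.sub_eq_of_eq_add (by ring)]
      ring
    have hev : 2 ∣ 2 ^ (k + 2) := dvd_pow_self 2 (by omega)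
    obtain ⟨-, hr'⟩ := split_two hq hr hqr (by omega) (by omega) h2
    have h3' := (Nat.prime_dvd_prime_iff_eq Nat.prime_three hr).1
      (show 3 ∣ r by rw [hr', show w = 2 ^ (k + 2) - 1 by omega]; exact three_dvd_two_pow_sub_one (hp5 hp' h3))
    have hw3 : w = 3 := hr'.symm.trans h3'.symm
    have hp_eq : p = 5 := by rw [hp', hw, hw3]
    subst hp_eq
    have h60 : Nat.card G = 60 := by
      rw [hc, hw, show w = 3 by omega]
      norm_num
    obtain ⟨T⟩ : Nonempty (Sylow 5 G) := inferInstance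
    have hT : Nat.card T = 5 := by
      rw [Sylow.card_eq_multiplicity, h60, show (60 : ℕ) = 5 * 12 by norm_num,
        Nat.factorization_mul (by norm_num) (by norm_num), Finsupp.add_apply,
        Nat.factorization_eq_zero_of_not_dvd (by norm_num : ¬ 5 ∣ 12), hp.factorization_self]
      rfl
    have hn : Nat.card (Sylow 5 G) = 5 + 1 := by
      have h1 := T.card_dvd_index
      have h2 := (T : Subgroup G).card_mul_index
      rw [h60, hT] at h2
      rw [show (T : Subgroup G).index = 12 by omega] at h1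
      have h4 := card_sylow_modEq_one 5 G
      have h5 : Nat.card (Sylow 5 G) ≠ 1 := by
        intro h
        have h6 := T.card_eq_index_normalizer.symm.trans h
        rw [Subgroup.index_eq_one] at h6
        haveI : (T : Subgroup G).Normal := Subgroup.normalizer_eq_top_iff.1 h6
        rcases IsSimpleGroup.eq_bot_or_eq_top_of_normal (T : Subgroup G) inferInstance with h7 | h7
        · have h8 : Nat.card (T : Subgroup G) = 1 := by rw [h7, Subgroup.card_bot]
          omega
        · have h8 : Nat.card (T : Subgroup G) = Nat.card G := by rw [h7, Subgroup.card_top]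
          omega
      unfold Nat.ModEq at h4
      have h9 := Nat.le_of_dvd (by norm_num) h1
      interval_cases hk : Nat.card (Sylow 5 G) <;> omega
    exact Or.inl ⟨ZMod 5, inferInstance, inferInstance, ZMod.card 5,
      SylowCounting.iso_psl_prime le_rfl (by rw [h60]; norm_num) hn (ZMod.card 5)⟩

end Cfsg.Agent.Lib.BrauerTuan
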