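import Cfsg.Agent.Lib.BrauerPrime.Main
import Cfsg.Agent.Lib.Blocks.SmallDegree

/-!
# Simple groups of order `p q ^ b g` with `g < p - 1`: the exceptional characters
-/

set_option autoImplicit false
set_option linter.unusedSectionVars false
set_option linter.style.haveILetI false
set_option maxHeartbeats 1000000

namespace Cfsg.Agent.Lib.BrauerTuan

open Cfsg Cfsg.Agent.Lib.Characters Cfsg.Agent.Lib.Blocks
open scoped ComplexConjugate commutatorElement

universe u

variable {G : Type u} [Group G] [Fintype G] {M : Ideal AlgInt} [hMp : M.IsPrime] {p : ℕ}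
  [hp : Fact p.Prime] {P O : Subgroup G} {u : G} [Fintype O]

/-- In the principal block only the trivial character of the `p'`-part of the centralizer occurs
in the sections. -/
theorem principal_sections_other [Fintype (Subgroup.centralizer (P : Set G))] (hM : IsPModular p M)
    (S : PrimeSplit p P O u) {φ : IrrCharacter G} (hφ : φ ∈ principalBlock M G) {η : IrrCharacter O}
    (hη : η ≠ trivIrr O) {i : ZMod p} (hi : i ≠ 0) :
    secCoeff u (η : O → ℂ) φ i = 0 := by
  classical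
  obtain ⟨B, b, ψ₀, hB, hBP, hb, hψ₀, hres⟩ := S.exists_block_of_theta hM (trivIrr O)
  obtain ⟨hout, hin⟩ := S.defect_one_inputs hM hB hBP hb hψ₀
  rw [hres] at hout hin
  have hone : secCoeff u ((trivIrr O : IrrCharacter O) : O → ℂ) (trivIrr G) (1 : ZMod p) = 1 := by
    rw [secCoeff]
    simp only [trivIrr_apply, mul_one, Finset.sum_const, Finset.card_univ, nsmul_eq_mul]
    rw [← Nat.card_eq_fintype_card, inv_mul_cancel₀ natCard_ne_zero_complex]
  have htB : trivIrr G ∈ B := by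
    by_contra hn
    have h := hout _ hn (1 : ZMod p) one_ne_zero
    rw [hone] at h
    exact one_ne_zero h
  have hBeq : B = principalBlock M G :=
    IsPBlock.eq_of_mem hB isPBlock_principalBlock htB (self_mem_blockOf (trivIrr G))
  refine hin φ (hBeq ▸ hφ) η (fun g hg => ?_) i hi
  by_contra hcon
  push Not at hcon
  exact hη (Subtype.ext (funext fun y => by rw [hcon, trivIrr_apply, trivIrr_apply]))

/-- A faithful character of degree below `p` in the principal block: the centralizer of the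
Sylow subgroup of order `p` is itself. -/
theorem centralizer_eq_of_small (hM : IsPModular p M) (Q : Sylow p G) (hQ : Nat.card Q = p)
    {φ : IrrCharacter G} (hφ : φ ∈ principalBlock M G) (hd : charDegree (φ : G → ℂ) < p)
    (hfaith : ∀ g : G, (φ : G → ℂ) g = (φ : G → ℂ) 1 → g = 1) :
    Subgroup.centralizer ((Q : Subgroup G) : Set G) = (Q : Subgroup G) := by
  classical
  haveI : NeZero p := ⟨hp.out.ne_zero⟩
  obtain ⟨u, O, S⟩ := exists_primeSplit (Q : Subgroup G) hQ (BrauerPrime.sq_not_dvd Q hQ)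
  haveI := Fintype.ofFinite O
  haveI := Fintype.ofFinite (Subgroup.centralizer ((Q : Subgroup G) : Set G))
  haveI := Fintype.ofFinite (IrrCharacter O)
  have hzero : ∀ η : IrrCharacter O, η ≠ trivIrr O → secCoeff u (η : O → ℂ) φ (0 : ZMod p) = 0 := by
    intro η hη
    have hc : ∀ j, S.secMult η φ j = S.secMult η φ 0 := by
      intro j
      by_cases hj : j = 0
      · rw [hj]
      · have := S.secMult_of_const η φ (δ := 0)
          (fun i hi => by rw [principal_sections_other hM S hφ hη hi, Int.cast_zero]) hj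
        omega
    have hsum := S.sum_secMult_le η φ
    rw [Finset.sum_congr rfl fun j _ => hc j, Finset.sum_const, Finset.card_univ, ZMod.card,
      smul_eq_mul] at hsum
    have h0 : S.secMult η φ 0 = 0 := by
      by_contra h0
      have := Nat.le_mul_of_pos_right p (Nat.pos_of_ne_zero h0)
      omega
    rw [S.secCoeff_zero_eq, Finset.sum_congr rfl fun j _ => hc j, h0]
    simp
  have hO : ∀ y : O, (φ : G → ℂ) (y : G) = (φ : G → ℂ) 1 := by
    intro y
    have h : ∀ y : O, (φ : G → ℂ) (y : G) =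
        secCoeff u ((trivIrr O : IrrCharacter O) : O → ℂ) φ (0 : ZMod p) := by
      intro y
      have h1 := S.section_eq_sum φ (0 : ZMod p) y
      rw [upow_zero, one_mul] at h1
      rw [h1, Finset.sum_eq_single (trivIrr O)]
      · rw [trivIrr_apply, mul_one]
      · intro η _ hη; rw [hzero η hη, zero_mul]
      · simp
    rw [h y, ← h 1, OneMemClass.coe_one]
  refine le_antisymm (fun c hc => ?_) (fun x hx => ?_)
  · obtain ⟨j, y, hy, rfl⟩ := S.dec c hc
    rw [hfaith y (hO ⟨y, hy⟩), mul_one]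
    exact pow_mem S.mem j
  · haveI : IsCyclic (Q : Subgroup G) := isCyclic_of_prime_card hQ
    exact Subgroup.mem_centralizer_iff.2 fun a ha =>
      congrArg Subtype.val ((IsCyclic.commGroup (α := (Q : Subgroup G))).mul_comm ⟨a, ha⟩ ⟨x, hx⟩)

/-- The principal block of a simple group of order `p q ^ b g`. -/
structure Ctx (p q b g : ℕ) [Fact p.Prime] (P : Sylow p G) (u t : G) (r e : ℕ)
    (X Y : Finset (IrrCharacter G)) (εX : IrrCharacter G → ℤ) (ε : ℤ) (D : ℕ) : Prop where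
  perfect : commutator G = ⊤
  simple : IsSimpleGroup G
  five : 5 ≤ p
  prime_q : q.Prime
  q_ne : q ≠ p
  card_G : Nat.card G = p * q ^ b * g
  q_g : ¬ q ∣ g
  g_lt : g < p - 1
  frame : BrauerPrime.Frame p P u t r e
  e_lt : e < p - 1
  card_X : X.card = e
  card_Y : Y.card * e = p - 1
  disj : Disjoint X Y
  triv_mem : trivIrr G ∈ X
  eX_triv : εX (trivIrr G) = 1
  eX : ∀ χ ∈ X, εX χ = 1 ∨ εX χ = -1
  X_mod : ∀ χ ∈ X, (charDegree (χ : G → ℂ) : ℤ) ≡ εX χ [ZMOD p]
  X_val : ∀ χ ∈ X, ∀ i : ZMod p, i ≠ 0 → (χ : G → ℂ) (upow u i) = (εX χ : ℂ)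
  X_dvd : ∀ χ ∈ X, χ ≠ trivIrr G → q ∣ charDegree (χ : G → ℂ)
  eps : ε = 1 ∧ D = e ∨ ε = -1 ∧ D + e = p
  Y_deg : ∀ θ ∈ Y, charDegree (θ : G → ℂ) = D
  D_dvd : D ∣ g
  q_D : ¬ q ∣ D
  Y_reg : ∀ θ ∈ Y, ∀ θ' ∈ Y, ∀ x : G, ¬ p ∣ orderOf x → (θ : G → ℂ) x = (θ' : G → ℂ) x
  relation : ∀ θ ∈ Y, ∀ x : G, ¬ p ∣ orderOf x →
    (ε : ℂ) * (θ : G → ℂ) x = ∑ χ ∈ X, (εX χ : ℂ) * (χ : G → ℂ) x
  Y_sum : ∀ i : ZMod p, i ≠ 0 → ∑ θ ∈ Y, (θ : G → ℂ) (upow u i) = -(ε : ℂ)
  vanish : ∀ χ ∉ X ∪ Y, ∀ i : ZMod p, i ≠ 0 → (χ : G → ℂ) (upow u i) = 0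

theorem exists_ctx [IsSimpleGroup G] (hG : ¬ IsCyclic G) (p q b g : ℕ) [hp : Fact p.Prime]
    (hq : q.Prime) (hpq : q ≠ p) (hcard : Nat.card G = p * q ^ b * g) (hqg : ¬ q ∣ g)
    (hg : g < p - 1) :
    ∃ (P : Sylow p G) (u t : G) (r e : ℕ) (X Y : Finset (IrrCharacter G)) (εX : IrrCharacter G → ℤ)
      (ε : ℤ) (D : ℕ), Ctx p q b g P u t r e X Y εX ε D := by
  classical
  haveI := Fintype.ofFinite (IrrCharacter G)
  haveI : NeZero p := ⟨hp.out.ne_zero⟩
  have hg0 : g ≠ 0 := fun h => Nat.card_pos.ne' (hcard.trans (by rw [h, mul_zero]))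
  have hpg : ¬ p ∣ g := fun h => absurd (Nat.le_of_dvd (Nat.pos_of_ne_zero hg0) h) (by omega)
  have hperf : commutator G = ⊤ := by
    refine (IsSimpleGroup.eq_bot_or_eq_top_of_normal (commutator G) inferInstance).resolve_left
      fun hb => hG ?_
    letI : CommGroup G := { (inferInstance : Group G) with
      mul_comm := fun a c => by
        have h : ⁅a, c⁆ ∈ commutator G :=
          Subgroup.commutator_mem_commutator (Subgroup.mem_top _) (Subgroup.mem_top _)
        rw [hb, Subgroup.mem_bot, commutatorElement_eq_one_iff_commute] at h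
        exact h }
    exact IsSimpleGroup.isCyclic
  obtain ⟨P⟩ : Nonempty (Sylow p G) := inferInstance
  have hP : Nat.card P = p := by
    rw [Sylow.card_eq_multiplicity, hcard, Nat.factorization_mul
      (Nat.mul_ne_zero hp.out.ne_zero (pow_ne_zero _ hq.ne_zero)) hg0,
      Nat.factorization_mul hp.out.ne_zero (pow_ne_zero _ hq.ne_zero), Finsupp.add_apply,
      Finsupp.add_apply, hp.out.factorization_self, Nat.factorization_eq_zero_of_not_dvd
        (fun h => hpq ((Nat.prime_dvd_prime_iff_eq hp.out hq).1 (hp.out.dvd_of_dvd_pow h)).symm),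
      Nat.factorization_eq_zero_of_not_dvd hpg, pow_one]
  obtain ⟨e, he⟩ : ∃ e, (Subgroup.centralizer ((P : Subgroup G) : Set G)).relIndex
      (Subgroup.normalizer ((P : Subgroup G) : Set G)) = e := ⟨_, rfl⟩
  obtain ⟨he2, hed, hp2⟩ := BrauerPrime.index_facts hperf P hP he
  obtain ⟨M, hM⟩ := exists_isPModular hp.out
  haveI : M.IsPrime := hM.2.1.isPrime
  obtain ⟨X, Y, εX, ε, u, hu, hu1, hblock, hdisj, hXc, hYc, htriv, hX, hε, hYmod, hYreg, hrel, -, hnorm⟩ :=
    principal_block_prime_order_data hM hp2 P hP e he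
  have hordu : orderOf u = p := orderOf_of_mem_prime hP hu hu1
  have hXval : ∀ χ ∈ X, ∀ i : ZMod p, i ≠ 0 → (χ : G → ℂ) (upow u i) = (εX χ : ℂ) := by
    intro χ hχ i hi
    have h := (hX χ hχ).2.2 (upow u i) (upow_mem hu i)
      (fun h => hi ((upow_eq_one_iff hordu i).1 h)) 1 (one_mem _) (by rw [orderOf_one, Nat.dvd_one]; exact hp.out.ne_one)
    rwa [mul_one] at h
  have heXt : εX (trivIrr G) = 1 := by
    have h := hXval _ htriv 1 one_ne_zero
    rw [trivIrr_apply] at h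
    exact_mod_cast h.symm
  have hele : e ≤ p - 1 := Nat.le_of_dvd (by omega) hed
  obtain ⟨θ₀, hθ₀⟩ : Y.Nonempty := Finset.card_pos.1 (by
    rw [hYc]; exact Nat.div_pos hele (by omega))
  set D := charDegree (θ₀ : G → ℂ) with hD
  have hone : ¬ p ∣ orderOf (1 : G) := by rw [orderOf_one, Nat.dvd_one]; exact hp.out.ne_one
  have hYdeg : ∀ θ ∈ Y, charDegree (θ : G → ℂ) = D := fun θ hθ =>
    Nat.cast_injective (R := ℂ) (by rw [hD, charDegree_eq, charDegree_eq, hYreg θ hθ θ₀ hθ₀ 1 hone])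
  -- degrees prime to `p` divide `q ^ b g`
  have hdvd : ∀ χ : IrrCharacter G, ¬ p ∣ charDegree (χ : G → ℂ) →
      ¬ q ∣ charDegree (χ : G → ℂ) → charDegree (χ : G → ℂ) ∣ g := by
    intro χ h1 h2
    have h := charDegree_dvd_card χ
    rw [hcard, mul_assoc] at h
    exact ((hq.coprime_iff_not_dvd.2 h2).symm.pow_right b).dvd_of_dvd_mul_left
      ((hp.out.coprime_iff_not_dvd.2 h1).symm.dvd_of_dvd_mul_left h)
  have hsmall : ∀ χ : IrrCharacter G, χ ≠ trivIrr G → ¬ p ∣ charDegree (χ : G → ℂ) →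
      ¬ q ∣ charDegree (χ : G → ℂ) → 2 ≤ charDegree (χ : G → ℂ) ∧ charDegree (χ : G → ℂ) < p - 1 := by
    intro χ hne h1 h2
    refine ⟨?_, lt_of_le_of_lt (Nat.le_of_dvd (Nat.pos_of_ne_zero hg0) (hdvd χ h1 h2)) hg⟩
    have h3 := charDegree_pos χ
    have h4 : charDegree (χ : G → ℂ) ≠ 1 := fun h => hne (BrauerPrime.eq_trivIrr_of_degree_one hperf χ h)
    omega
  have hXdvd : ∀ χ ∈ X, χ ≠ trivIrr G → q ∣ charDegree (χ : G → ℂ) := by
    intro χ hχ hne
    by_contra hnq
    obtain ⟨hδ, hmod, -⟩ := hX χ hχ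
    have hnp : ¬ p ∣ charDegree (χ : G → ℂ) := by
      intro h
      have h1 : (p : ℤ) ∣ εX χ := (Int.modEq_iff_dvd.1 hmod).trans dvd_rfl |> fun h' => by
        have := dvd_add h' (Int.natCast_dvd_natCast.2 h)
        simpa using this
      rcases hδ with h2 | h2 <;> rw [h2] at h1
      · exact hp.out.ne_one (Nat.dvd_one.1 (by exact_mod_cast h1))
      · exact hp.out.ne_one (Nat.dvd_one.1 (by exact_mod_cast (dvd_neg.1 h1)))
    obtain ⟨h1, h2⟩ := hsmall χ hne hnp hnq
    obtain ⟨k, hk⟩ := Int.modEq_iff_dvd.1 hmod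
    rcases lt_trichotomy k 0 with hk0 | rfl | hk0
    · have : (p : ℤ) * k ≤ -(p : ℤ) := by nlinarith
      rcases hδ with h3 | h3 <;> omega
    · rcases hδ with h3 | h3 <;> omega
    · have : (p : ℤ) ≤ (p : ℤ) * k := by nlinarith
      rcases hδ with h3 | h3 <;> omega
  have hrel1 : ε * (D : ℤ) = 1 + ∑ χ ∈ X.erase (trivIrr G), εX χ * (charDegree (χ : G → ℂ) : ℤ) := by
    have h := hrel θ₀ hθ₀ 1 hone
    rw [← Finset.add_sum_erase _ _ htriv, heXt, trivIrr_apply, ← charDegree_eq θ₀, ← hD] at h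
    simp only [← charDegree_eq, Int.cast_one, one_mul] at h
    exact_mod_cast h
  have hqD : ¬ q ∣ D := by
    intro h
    have h1 : (q : ℤ) ∣ ε * (D : ℤ) := dvd_mul_of_dvd_right (Int.natCast_dvd_natCast.2 h) _
    rw [hrel1] at h1
    have h2 : (q : ℤ) ∣ ∑ χ ∈ X.erase (trivIrr G), εX χ * (charDegree (χ : G → ℂ) : ℤ) :=
      Finset.dvd_sum fun χ hχ => dvd_mul_of_dvd_right (Int.natCast_dvd_natCast.2
        (hXdvd χ (Finset.mem_erase.1 hχ).2 (Finset.mem_erase.1 hχ).1)) _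
    have h3 := dvd_sub h1 h2
    rw [add_sub_cancel_right] at h3
    exact hq.ne_one (Nat.dvd_one.1 (by exact_mod_cast h3))
  have hθne : θ₀ ≠ trivIrr G := fun h => Finset.disjoint_left.1 hdisj htriv (h ▸ hθ₀)
  have hDp : ¬ p ∣ D := by
    intro h
    have h1 : (p : ℤ) ∣ ε * (e : ℤ) := (Int.modEq_iff_dvd.1 (hYmod θ₀ hθ₀)) |> fun h' => by
      have := dvd_add h' (Int.natCast_dvd_natCast.2 h)
      simpa [← hD] using this
    have h2 : (p : ℤ) ∣ (e : ℤ) := by
      rcases hε with h3 | h3 <;> rw [h3] at h1 <;> simpa using h1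
    have := Nat.le_of_dvd (by omega) (Int.natCast_dvd_natCast.1 h2)
    omega
  obtain ⟨hD2, hDlt⟩ := hsmall θ₀ hθne hDp hqD
  have heps : ε = 1 ∧ D = e ∨ ε = -1 ∧ D + e = p := by
    obtain ⟨k, hk⟩ := Int.modEq_iff_dvd.1 (hYmod θ₀ hθ₀)
    rcases hε with h3 | h3 <;> rw [h3] at hk <;> simp only [← hD] at hk
    · refine Or.inl ⟨h3, ?_⟩
      rcases lt_trichotomy k 0 with hk0 | rfl | hk0
      · have : (p : ℤ) * k ≤ -(p : ℤ) := by nlinarith
        omega
      · omega
      · have : (p : ℤ) ≤ (p : ℤ) * k := by nlinarith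
        omega
    · refine Or.inr ⟨h3, ?_⟩
      rcases lt_trichotomy k (-1) with hk0 | rfl | hk0
      · have : (p : ℤ) * k ≤ -(2 * (p : ℤ)) := by nlinarith
        omega
      · omega
      · have : 0 ≤ (p : ℤ) * k := by nlinarith
        omega
  have hθmem : θ₀ ∈ principalBlock M G := by
    rw [hblock]; exact Set.mem_union_right _ (Finset.mem_coe.2 hθ₀)
  have hC := centralizer_eq_of_small hM P hP hθmem (by omega)
    (fun x hx => BrauerPrime.faithful θ₀ hθne x hx)
  obtain ⟨t, r, F⟩ := BrauerPrime.exists_frame P hP hC hu hu1 he2 hed he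
  have hYc' : Y.card * e = p - 1 := by rw [hYc]; exact Nat.div_mul_cancel hed
  have hcardu : ∀ i : ZMod p, i ≠ 0 →
      Nat.card (Subgroup.centralizer ({upow u i} : Set G)) = p := fun i hi => F.card_centralizer_upow hi
  have hvan : ∀ χ ∉ X ∪ Y, ∀ i : ZMod p, i ≠ 0 → (χ : G → ℂ) (upow u i) = 0 := by
    intro χ hχ i hi
    have h := sum_irr_mul_conj (upow u i) (upow u i)
    rw [if_pos (IsConj.refl _), hcardu i hi, ← Finset.sum_sdiff (Finset.subset_univ (X ∪ Y)),
      hnorm i hi, add_eq_right] at h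
    have h2 : ∑ φ ∈ Finset.univ \ (X ∪ Y), Complex.normSq ((φ : G → ℂ) (upow u i)) = 0 := by
      simp only [Complex.mul_conj] at h
      exact_mod_cast h
    exact Complex.normSq_eq_zero.1 ((Finset.sum_eq_zero_iff_of_nonneg fun φ _ => Complex.normSq_nonneg _).1 h2
      χ (Finset.mem_sdiff.2 ⟨Finset.mem_univ _, hχ⟩))
  have hYsum : ∀ i : ZMod p, i ≠ 0 → ∑ θ ∈ Y, (θ : G → ℂ) (upow u i) = -(ε : ℂ) := by
    intro i hi
    have h := sum_irr_mul_conj (upow u i) (1 : G)
    rw [if_neg (fun h => hi ((upow_eq_one_iff hordu i).1 (isConj_one_left.1 h))),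
      ← Finset.sum_sdiff (Finset.subset_univ (X ∪ Y)), Finset.sum_eq_zero
        (s := Finset.univ \ (X ∪ Y)) (fun φ hφ => by rw [hvan φ (Finset.mem_sdiff.1 hφ).2 i hi, zero_mul]),
      zero_add, Finset.sum_union hdisj] at h
    rw [Finset.sum_congr (rfl : X = X) fun φ hφ => show (φ : G → ℂ) (upow u i) * conj ((φ : G → ℂ) 1) =
        (εX φ : ℂ) * (φ : G → ℂ) 1 by rw [hXval φ hφ i hi, ← charDegree_eq φ, map_natCast],
      ← hrel θ₀ hθ₀ 1 hone,
      Finset.sum_congr (rfl : Y = Y) fun φ hφ => show (φ : G → ℂ) (upow u i) * conj ((φ : G → ℂ) 1) =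
        (φ : G → ℂ) (upow u i) * (D : ℂ) by rw [← charDegree_eq φ, map_natCast, hYdeg φ hφ],
      ← Finset.sum_mul, ← charDegree_eq θ₀, ← hD, ← add_mul] at h
    exact eq_neg_of_add_eq_zero_right
      ((mul_eq_zero.1 h).resolve_right (Nat.cast_ne_zero.2 (by omega)))
  exact ⟨P, u, t, r, e, X, Y, εX, ε, D, hperf, inferInstance, by
    rcases Nat.lt_or_ge p 5 with h | h
    · interval_cases p
      all_goals first | omega | exact absurd hp.out (by norm_num)
    · exact h, hq, hpq, hcard, hqg, hg, F, by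
      rcases heps with ⟨-, h⟩ | ⟨-, h⟩ <;> omega, hXc, hYc', hdisj, htriv, heXt,
    fun χ hχ => (hX χ hχ).1, fun χ hχ => (hX χ hχ).2.1, hXval, hXdvd, heps, hYdeg, hdvd θ₀ hDp hqD,
    hqD, hYreg, hrel, hYsum, hvan⟩

end Cfsg.Agent.Lib.BrauerTuan
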